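import Cfsg.Agent.Lib.Spor.Th.Data
import Cfsg.Agent.Lib.Spor.ThA.Defs
import Cfsg.Agent.Lib.Spor.Th.Top

set_option autoImplicit false
set_option maxRecDepth 100000
set_option Elab.async false
set_option exponentiation.threshold 100000

namespace Cfsg.Agent.Spor.Th
open Cfsg.Agent.PG Cfsg.Agent.Spor Cfsg.Agent.Spor.ThA

theorem mcl8_0 : chkR P L 0 248 (ThA.cl8_l) = true := by decide +kernel

theorem mcl7_0 : chkR P L 0 248 (ThA.cl7_l) = true := by decide +kernel

theorem mcl6_0 : chkR P L 0 248 (ThA.cl6_l) = true := by decide +kernel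

theorem mcl5_0 : chkR P L 0 248 (ThA.cl5_l) = true := by decide +kernel

theorem mcl4_0 : chkR P L 0 248 ((ThA.cl4_l).take 9) = true := by decide +kernel

theorem mcl4_1 : chkR P L 0 248 ((ThA.cl4_l).drop 9) = true := by decide +kernel

theorem mcl3_0 : chkR P L 0 248 ((ThA.cl3_l).take 10) = true := by decide +kernel

theorem mcl3_1 : chkR P L 0 248 (((ThA.cl3_l).drop 10).take 5) = true := by decide +kernel

theorem mcl3_2 : chkR P L 0 248 ((((ThA.cl3_l).drop 10).drop 5).take 5) = true := by decide +kernel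

theorem mcl3_3 : chkR P L 0 248 (((((ThA.cl3_l).drop 10).drop 5).drop 5).take 4) = true := by decide +kernel

theorem mcl3_4 : chkR P L 0 248 ((((((ThA.cl3_l).drop 10).drop 5).drop 5).drop 4).take 3) = true := by decide +kernel

theorem mcl3_5 : chkR P L 0 248 ((((((ThA.cl3_l).drop 10).drop 5).drop 5).drop 4).drop 3) = true := by decide +kernel

theorem mcl2_0 : chkR P L 0 248 ((ThA.cl2_l).take 5) = true := by decide +kernel

theorem mcl2_1 : chkR P L 0 248 (((ThA.cl2_l).drop 5).take 9) = true := by decide +kernel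

theorem mcl2_2 : chkR P L 0 248 ((((ThA.cl2_l).drop 5).drop 9).take 2) = true := by decide +kernel

theorem mcl2_3 : chkR P L 0 248 (((((ThA.cl2_l).drop 5).drop 9).drop 2).take 3) = true := by decide +kernel

theorem mcl2_4 : chkR P L 0 248 ((((((ThA.cl2_l).drop 5).drop 9).drop 2).drop 3).take 3) = true := by decide +kernel

theorem mcl2_5 : chkR P L 0 248 (((((((ThA.cl2_l).drop 5).drop 9).drop 2).drop 3).drop 3).take 1) = true := by decide +kernel

theorem mcl2_6 : chkR P L 0 248 ((((((((ThA.cl2_l).drop 5).drop 9).drop 2).drop 3).drop 3).drop 1).take 2) = true := by decide +kernel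

theorem mcl2_7 : chkR P L 0 248 (((((((((ThA.cl2_l).drop 5).drop 9).drop 2).drop 3).drop 3).drop 1).drop 2).take 3) = true := by decide +kernel

theorem mcl2_8 : chkR P L 0 248 ((((((((((ThA.cl2_l).drop 5).drop 9).drop 2).drop 3).drop 3).drop 1).drop 2).drop 3).take 2) = true := by decide +kernel

theorem mcl2_9 : chkR P L 0 248 (((((((((((ThA.cl2_l).drop 5).drop 9).drop 2).drop 3).drop 3).drop 1).drop 2).drop 3).drop 2).take 2) = true := by decide +kernel

theorem mcl2_10 : chkR P L 0 248 ((((((((((((ThA.cl2_l).drop 5).drop 9).drop 2).drop 3).drop 3).drop 1).drop 2).drop 3).drop 2).drop 2).take 1) = true := by decide +kernel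

theorem mcl2_11 : chkR P L 0 248 (((((((((((((ThA.cl2_l).drop 5).drop 9).drop 2).drop 3).drop 3).drop 1).drop 2).drop 3).drop 2).drop 2).drop 1).take 2) = true := by decide +kernel

theorem mcl2_12 : chkR P L 0 248 ((((((((((((((ThA.cl2_l).drop 5).drop 9).drop 2).drop 3).drop 3).drop 1).drop 2).drop 3).drop 2).drop 2).drop 1).drop 2).take 1) = true := by decide +kernel

theorem mcl2_13 : chkR P L 0 248 (((((((((((((((ThA.cl2_l).drop 5).drop 9).drop 2).drop 3).drop 3).drop 1).drop 2).drop 3).drop 2).drop 2).drop 1).drop 2).drop 1).take 2) = true := by decide +kernel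

theorem mcl2_14 : chkR P L 0 248 ((((((((((((((((ThA.cl2_l).drop 5).drop 9).drop 2).drop 3).drop 3).drop 1).drop 2).drop 3).drop 2).drop 2).drop 1).drop 2).drop 1).drop 2).take 1) = true := by decide +kernel

theorem mcl2_15 : chkR P L 0 248 (((((((((((((((((ThA.cl2_l).drop 5).drop 9).drop 2).drop 3).drop 3).drop 1).drop 2).drop 3).drop 2).drop 2).drop 1).drop 2).drop 1).drop 2).drop 1).take 1) = true := by decide +kernel

theorem mcl2_16 : chkR P L 0 248 ((((((((((((((((((ThA.cl2_l).drop 5).drop 9).drop 2).drop 3).drop 3).drop 1).drop 2).drop 3).drop 2).drop 2).drop 1).drop 2).drop 1).drop 2).drop 1).drop 1).take 1) = true := by decide +kernel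

end Cfsg.Agent.Spor.Th
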