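import Cfsg.Agent.Lib.Spor.Th.Data
import Cfsg.Agent.Lib.Spor.ThA.Defs
import Cfsg.Agent.Lib.Spor.Th.Top

set_option autoImplicit false
set_option maxRecDepth 100000
set_option Elab.async false
set_option exponentiation.threshold 100000

namespace Cfsg.Agent.Spor.Th
open Cfsg.Agent.PG Cfsg.Agent.Spor Cfsg.Agent.Spor.ThA

theorem mcl2_17 : chkR P L 0 248 (((((((((((((((((((ThA.cl2_l).drop 5).drop 9).drop 2).drop 3).drop 3).drop 1).drop 2).drop 3).drop 2).drop 2).drop 1).drop 2).drop 1).drop 2).drop 1).drop 1).drop 1).take 2) = true := by decide +kernel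

theorem mcl2_18 : chkR P L 0 248 ((((((((((((((((((((ThA.cl2_l).drop 5).drop 9).drop 2).drop 3).drop 3).drop 1).drop 2).drop 3).drop 2).drop 2).drop 1).drop 2).drop 1).drop 2).drop 1).drop 1).drop 1).drop 2).take 3) = true := by decide +kernel

theorem mcl2_19 : chkR P L 0 248 (((((((((((((((((((((ThA.cl2_l).drop 5).drop 9).drop 2).drop 3).drop 3).drop 1).drop 2).drop 3).drop 2).drop 2).drop 1).drop 2).drop 1).drop 2).drop 1).drop 1).drop 1).drop 2).drop 3).take 1) = true := by decide +kernel

theorem mcl2_20 : chkR P L 0 248 ((((((((((((((((((((((ThA.cl2_l).drop 5).drop 9).drop 2).drop 3).drop 3).drop 1).drop 2).drop 3).drop 2).drop 2).drop 1).drop 2).drop 1).drop 2).drop 1).drop 1).drop 1).drop 2).drop 3).drop 1).take 2) = true := by decide +kernel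

theorem mcl2_21 : chkR P L 0 248 (((((((((((((((((((((((ThA.cl2_l).drop 5).drop 9).drop 2).drop 3).drop 3).drop 1).drop 2).drop 3).drop 2).drop 2).drop 1).drop 2).drop 1).drop 2).drop 1).drop 1).drop 1).drop 2).drop 3).drop 1).drop 2).take 2) = true := by decide +kernel

theorem mcl2_22 : chkR P L 0 248 ((((((((((((((((((((((((ThA.cl2_l).drop 5).drop 9).drop 2).drop 3).drop 3).drop 1).drop 2).drop 3).drop 2).drop 2).drop 1).drop 2).drop 1).drop 2).drop 1).drop 1).drop 1).drop 2).drop 3).drop 1).drop 2).drop 2).take 2) = true := by decide +kernel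

theorem mcl2_23 : chkR P L 0 248 (((((((((((((((((((((((((ThA.cl2_l).drop 5).drop 9).drop 2).drop 3).drop 3).drop 1).drop 2).drop 3).drop 2).drop 2).drop 1).drop 2).drop 1).drop 2).drop 1).drop 1).drop 1).drop 2).drop 3).drop 1).drop 2).drop 2).drop 2).take 2) = true := by decide +kernel

theorem mcl2_24 : chkR P L 0 248 ((((((((((((((((((((((((((ThA.cl2_l).drop 5).drop 9).drop 2).drop 3).drop 3).drop 1).drop 2).drop 3).drop 2).drop 2).drop 1).drop 2).drop 1).drop 2).drop 1).drop 1).drop 1).drop 2).drop 3).drop 1).drop 2).drop 2).drop 2).drop 2).take 1) = true := by decide +kernel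

theorem mcl2_25 : chkR P L 0 248 (((((((((((((((((((((((((((ThA.cl2_l).drop 5).drop 9).drop 2).drop 3).drop 3).drop 1).drop 2).drop 3).drop 2).drop 2).drop 1).drop 2).drop 1).drop 2).drop 1).drop 1).drop 1).drop 2).drop 3).drop 1).drop 2).drop 2).drop 2).drop 2).drop 1).take 1) = true := by decide +kernel

theorem mcl2_26 : chkR P L 0 248 ((((((((((((((((((((((((((((ThA.cl2_l).drop 5).drop 9).drop 2).drop 3).drop 3).drop 1).drop 2).drop 3).drop 2).drop 2).drop 1).drop 2).drop 1).drop 2).drop 1).drop 1).drop 1).drop 2).drop 3).drop 1).drop 2).drop 2).drop 2).drop 2).drop 1).drop 1).take 2) = true := by decide +kernel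

theorem mcl2_27 : chkR P L 0 248 (((((((((((((((((((((((((((((ThA.cl2_l).drop 5).drop 9).drop 2).drop 3).drop 3).drop 1).drop 2).drop 3).drop 2).drop 2).drop 1).drop 2).drop 1).drop 2).drop 1).drop 1).drop 1).drop 2).drop 3).drop 1).drop 2).drop 2).drop 2).drop 2).drop 1).drop 1).drop 2).take 1) = true := by decide +kernel

theorem mcl2_28 : chkR P L 0 248 ((((((((((((((((((((((((((((((ThA.cl2_l).drop 5).drop 9).drop 2).drop 3).drop 3).drop 1).drop 2).drop 3).drop 2).drop 2).drop 1).drop 2).drop 1).drop 2).drop 1).drop 1).drop 1).drop 2).drop 3).drop 1).drop 2).drop 2).drop 2).drop 2).drop 1).drop 1).drop 2).drop 1).take 1) = true := by decide +kernel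

theorem mcl2_29 : chkR P L 0 248 (((((((((((((((((((((((((((((((ThA.cl2_l).drop 5).drop 9).drop 2).drop 3).drop 3).drop 1).drop 2).drop 3).drop 2).drop 2).drop 1).drop 2).drop 1).drop 2).drop 1).drop 1).drop 1).drop 2).drop 3).drop 1).drop 2).drop 2).drop 2).drop 2).drop 1).drop 1).drop 2).drop 1).drop 1).take 1) = true := by decide +kernel

theorem mcl2_30 : chkR P L 0 248 ((((((((((((((((((((((((((((((((ThA.cl2_l).drop 5).drop 9).drop 2).drop 3).drop 3).drop 1).drop 2).drop 3).drop 2).drop 2).drop 1).drop 2).drop 1).drop 2).drop 1).drop 1).drop 1).drop 2).drop 3).drop 1).drop 2).drop 2).drop 2).drop 2).drop 1).drop 1).drop 2).drop 1).drop 1).drop 1).take 1) = true := by decide +kernel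

theorem mcl2_31 : chkR P L 0 248 ((((((((((((((((((((((((((((((((ThA.cl2_l).drop 5).drop 9).drop 2).drop 3).drop 3).drop 1).drop 2).drop 3).drop 2).drop 2).drop 1).drop 2).drop 1).drop 2).drop 1).drop 1).drop 1).drop 2).drop 3).drop 1).drop 2).drop 2).drop 2).drop 2).drop 1).drop 1).drop 2).drop 1).drop 1).drop 1).drop 1) = true := by decide +kernel

theorem mcl1_0 : chkR P L 0 248 ((ThA.cl1_l).take 2) = true := by decide +kernel

theorem mcl1_1 : chkR P L 0 248 (((ThA.cl1_l).drop 2).take 4) = true := by decide +kernel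

theorem mcl1_2 : chkR P L 0 248 ((((ThA.cl1_l).drop 2).drop 4).take 10) = true := by decide +kernel

theorem mcl1_3 : chkR P L 0 248 (((((ThA.cl1_l).drop 2).drop 4).drop 10).take 2) = true := by decide +kernel

theorem mcl1_4 : chkR P L 0 248 ((((((ThA.cl1_l).drop 2).drop 4).drop 10).drop 2).take 2) = true := by decide +kernel

theorem mcl1_5 : chkR P L 0 248 (((((((ThA.cl1_l).drop 2).drop 4).drop 10).drop 2).drop 2).take 1) = true := by decide +kernel

theorem mcl1_6 : chkR P L 0 248 ((((((((ThA.cl1_l).drop 2).drop 4).drop 10).drop 2).drop 2).drop 1).take 1) = true := by decide +kernel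

theorem mcl1_7 : chkR P L 0 248 (((((((((ThA.cl1_l).drop 2).drop 4).drop 10).drop 2).drop 2).drop 1).drop 1).take 1) = true := by decide +kernel

theorem mcl1_8 : chkR P L 0 248 ((((((((((ThA.cl1_l).drop 2).drop 4).drop 10).drop 2).drop 2).drop 1).drop 1).drop 1).take 1) = true := by decide +kernel

theorem mcl1_9 : chkR P L 0 248 (((((((((((ThA.cl1_l).drop 2).drop 4).drop 10).drop 2).drop 2).drop 1).drop 1).drop 1).drop 1).take 1) = true := by decide +kernel

theorem mcl1_10 : chkR P L 0 248 ((((((((((((ThA.cl1_l).drop 2).drop 4).drop 10).drop 2).drop 2).drop 1).drop 1).drop 1).drop 1).drop 1).take 1) = true := by decide +kernel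

theorem mcl1_11 : chkR P L 0 248 (((((((((((((ThA.cl1_l).drop 2).drop 4).drop 10).drop 2).drop 2).drop 1).drop 1).drop 1).drop 1).drop 1).drop 1).take 1) = true := by decide +kernel

theorem mcl1_12 : chkR P L 0 248 ((((((((((((((ThA.cl1_l).drop 2).drop 4).drop 10).drop 2).drop 2).drop 1).drop 1).drop 1).drop 1).drop 1).drop 1).drop 1).take 1) = true := by decide +kernel

theorem mcl1_13 : chkR P L 0 248 (((((((((((((((ThA.cl1_l).drop 2).drop 4).drop 10).drop 2).drop 2).drop 1).drop 1).drop 1).drop 1).drop 1).drop 1).drop 1).drop 1).take 1) = true := by decide +kernel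

end Cfsg.Agent.Spor.Th
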