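import Cfsg.Agent.Lib.Spor.Th.Data
import Cfsg.Agent.Lib.Spor.ThA.Defs
import Cfsg.Agent.Lib.Spor.Th.Top

set_option autoImplicit false
set_option maxRecDepth 100000
set_option Elab.async false
set_option exponentiation.threshold 100000

namespace Cfsg.Agent.Spor.Th
open Cfsg.Agent.PG Cfsg.Agent.Spor Cfsg.Agent.Spor.ThA

theorem clT_128 : chkR P L 0 248 ((((((((((((((((((((((((((((((((((((((((((((((((((((((((((((((((((((((((((((((((((((((((((((((((((((((((((((((((((((((((((((((((((dcClaims 64 66 cjT repsT).drop 2).drop 2).drop 2).drop 2).drop 12).drop 1).drop 1).drop 2).drop 1).drop 2).drop 1).drop 1).drop 1).drop 1).drop 2).drop 1).drop 1).drop 1).drop 1).drop 2).drop 2).drop 1).drop 1).drop 1).drop 1).drop 1).drop 1).drop 1).drop 1).drop 1).drop 1).drop 1).drop 1).drop 1).drop 1).drop 1).drop 2).drop 1).drop 1).drop 1).drop 1).drop 1).drop 1).drop 1).drop 1).drop 1).drop 1).drop 1).drop 1).drop 1).drop 1).drop 1).drop 1).drop 1).drop 1).drop 1).drop 1).drop 1).drop 1).drop 1).drop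 1).drop 2).drop 1).drop 1).drop 1).drop 1).drop 1).drop 1).drop 1).drop 1).drop 1).drop 1).drop 1).drop 1).drop 1).drop 1).drop 1).drop 1).drop 1).drop 1).drop 1).drop 1).drop 1).drop 1).drop 1).drop 1).drop 1).drop 1).drop 1).drop 1).drop 1).drop 1).drop 1).drop 1).drop 1).drop 1).drop 1).drop 1).drop 1).drop 1).drop 1).drop 1).drop 1).drop 1).drop 1).drop 1).drop 1).drop 1).drop 1).drop 1).drop 1).drop 1).drop 1).drop 1).drop 1).drop 1).drop 1).drop 1).drop 1).drop 1).drop 1).drop 1).drop 1).drop 1).drop 1).drop 1).drop 1).drop 1).take 1) = true := by decide +kernel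

theorem clT_129 : chkR P L 0 248 (((((((((((((((((((((((((((((((((((((((((((((((((((((((((((((((((((((((((((((((((((((((((((((((((((((((((((((((((((((((((((((((((((dcClaims 64 66 cjT repsT).drop 2).drop 2).drop 2).drop 2).drop 12).drop 1).drop 1).drop 2).drop 1).drop 2).drop 1).drop 1).drop 1).drop 1).drop 2).drop 1).drop 1).drop 1).drop 1).drop 2).drop 2).drop 1).drop 1).drop 1).drop 1).drop 1).drop 1).drop 1).drop 1).drop 1).drop 1).drop 1).drop 1).drop 1).drop 1).drop 1).drop 2).drop 1).drop 1).drop 1).drop 1).drop 1).drop 1).drop 1).drop 1).drop 1).drop 1).drop 1).drop 1).drop 1).drop 1).drop 1).drop 1).drop 1).drop 1).drop 1).drop 1).drop 1).drop 1).drop 1).drop 1).drop 2).drop 1).drop 1).drop 1).drop 1).drop 1).drop 1).drop 1).drop 1).drop 1).drop 1).drop 1).drop 1).drop 1).drop 1).drop 1).drop 1).drop 1).drop 1).drop 1).drop 1).drop 1).drop 1).drop 1).drop 1).drop 1).drop 1).drop 1).drop 1).drop 1).drop 1).drop 1).drop 1).drop 1).drop 1).drop 1).drop 1).drop 1).drop 1).drop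 1).drop 1).drop 1).drop 1).drop 1).drop 1).drop 1).drop 1).drop 1).drop 1).drop 1).drop 1).drop 1).drop 1).drop 1).drop 1).drop 1).drop 1).drop 1).drop 1).drop 1).drop 1).drop 1).drop 1).drop 1).drop 1).drop 1).drop 1).drop 1).take 1) = true := by decide +kernel

theorem clT_130 : chkR P L 0 248 ((((((((((((((((((((((((((((((((((((((((((((((((((((((((((((((((((((((((((((((((((((((((((((((((((((((((((((((((((((((((((((((((((((dcClaims 64 66 cjT repsT).drop 2).drop 2).drop 2).drop 2).drop 12).drop 1).drop 1).drop 2).drop 1).drop 2).drop 1).drop 1).drop 1).drop 1).drop 2).drop 1).drop 1).drop 1).drop 1).drop 2).drop 2).drop 1).drop 1).drop 1).drop 1).drop 1).drop 1).drop 1).drop 1).drop 1).drop 1).drop 1).drop 1).drop 1).drop 1).drop 1).drop 2).drop 1).drop 1).drop 1).drop 1).drop 1).drop 1).drop 1).drop 1).drop 1).drop 1).drop 1).drop 1).drop 1).drop 1).drop 1).drop 1).drop 1).drop 1).drop 1).drop 1).drop 1).drop 1).drop 1).drop 1).drop 2).drop 1).drop 1).drop 1).drop 1).drop 1).drop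 1).drop 1).drop 1).drop 1).drop 1).drop 1).drop 1).drop 1).drop 1).drop 1).drop 1).drop 1).drop 1).drop 1).drop 1).drop 1).drop 1).drop 1).drop 1).drop 1).drop 1).drop 1).drop 1).drop 1).drop 1).drop 1).drop 1).drop 1).drop 1).drop 1).drop 1).drop 1).drop 1).drop 1).drop 1).drop 1).drop 1).drop 1).drop 1).drop 1).drop 1).drop 1).drop 1).drop 1).drop 1).drop 1).drop 1).drop 1).drop 1).drop 1).drop 1).drop 1).drop 1).drop 1).drop 1).drop 1).drop 1).drop 1).drop 1).drop 1).drop 1).drop 1).drop 1).take 1) = true := by decide +kernel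

theorem clT_131 : chkR P L 0 248 (((((((((((((((((((((((((((((((((((((((((((((((((((((((((((((((((((((((((((((((((((((((((((((((((((((((((((((((((((((((((((((((((((((dcClaims 64 66 cjT repsT).drop 2).drop 2).drop 2).drop 2).drop 12).drop 1).drop 1).drop 2).drop 1).drop 2).drop 1).drop 1).drop 1).drop 1).drop 2).drop 1).drop 1).drop 1).drop 1).drop 2).drop 2).drop 1).drop 1).drop 1).drop 1).drop 1).drop 1).drop 1).drop 1).drop 1).drop 1).drop 1).drop 1).drop 1).drop 1).drop 1).drop 2).drop 1).drop 1).drop 1).drop 1).drop 1).drop 1).drop 1).drop 1).drop 1).drop 1).drop 1).drop 1).drop 1).drop 1).drop 1).drop 1).drop 1).drop 1).drop 1).drop 1).drop 1).drop 1).drop 1).drop 1).drop 2).drop 1).drop 1).drop 1).drop 1).drop 1).drop 1).drop 1).drop 1).drop 1).drop 1).drop 1).drop 1).drop 1).drop 1).drop 1).drop 1).drop 1).drop 1).drop 1).drop 1).drop 1).drop 1).drop 1).drop 1).drop 1).drop 1).drop 1).drop 1).drop 1).drop 1).drop 1).drop 1).drop 1).drop 1).drop 1).drop 1).drop 1).drop 1).drop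 1).drop 1).drop 1).drop 1).drop 1).drop 1).drop 1).drop 1).drop 1).drop 1).drop 1).drop 1).drop 1).drop 1).drop 1).drop 1).drop 1).drop 1).drop 1).drop 1).drop 1).drop 1).drop 1).drop 1).drop 1).drop 1).drop 1).drop 1).drop 1).drop 1).drop 1).take 1) = true := by decide +kernel

theorem clT_132 : chkR P L 0 248 ((((((((((((((((((((((((((((((((((((((((((((((((((((((((((((((((((((((((((((((((((((((((((((((((((((((((((((((((((((((((((((((((((((((dcClaims 64 66 cjT repsT).drop 2).drop 2).drop 2).drop 2).drop 12).drop 1).drop 1).drop 2).drop 1).drop 2).drop 1).drop 1).drop 1).drop 1).drop 2).drop 1).drop 1).drop 1).drop 1).drop 2).drop 2).drop 1).drop 1).drop 1).drop 1).drop 1).drop 1).drop 1).drop 1).drop 1).drop 1).drop 1).drop 1).drop 1).drop 1).drop 1).drop 2).drop 1).drop 1).drop 1).drop 1).drop 1).drop 1).drop 1).drop 1).drop 1).drop 1).drop 1).drop 1).drop 1).drop 1).drop 1).drop 1).drop 1).drop 1).drop 1).drop 1).drop 1).drop 1).drop 1).drop 1).drop 2).drop 1).drop 1).drop 1).drop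 1).drop 1).drop 1).drop 1).drop 1).drop 1).drop 1).drop 1).drop 1).drop 1).drop 1).drop 1).drop 1).drop 1).drop 1).drop 1).drop 1).drop 1).drop 1).drop 1).drop 1).drop 1).drop 1).drop 1).drop 1).drop 1).drop 1).drop 1).drop 1).drop 1).drop 1).drop 1).drop 1).drop 1).drop 1).drop 1).drop 1).drop 1).drop 1).drop 1).drop 1).drop 1).drop 1).drop 1).drop 1).drop 1).drop 1).drop 1).drop 1).drop 1).drop 1).drop 1).drop 1).drop 1).drop 1).drop 1).drop 1).drop 1).drop 1).drop 1).drop 1).drop 1).drop 1).drop 1).drop 1).drop 1).drop 1).take 1) = true := by decide +kernel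

theorem clT_133 : chkR P L 0 248 (((((((((((((((((((((((((((((((((((((((((((((((((((((((((((((((((((((((((((((((((((((((((((((((((((((((((((((((((((((((((((((((((((((((dcClaims 64 66 cjT repsT).drop 2).drop 2).drop 2).drop 2).drop 12).drop 1).drop 1).drop 2).drop 1).drop 2).drop 1).drop 1).drop 1).drop 1).drop 2).drop 1).drop 1).drop 1).drop 1).drop 2).drop 2).drop 1).drop 1).drop 1).drop 1).drop 1).drop 1).drop 1).drop 1).drop 1).drop 1).drop 1).drop 1).drop 1).drop 1).drop 1).drop 2).drop 1).drop 1).drop 1).drop 1).drop 1).drop 1).drop 1).drop 1).drop 1).drop 1).drop 1).drop 1).drop 1).drop 1).drop 1).drop 1).drop 1).drop 1).drop 1).drop 1).drop 1).drop 1).drop 1).drop 1).drop 2).drop 1).drop 1).drop 1).drop 1).drop 1).drop 1).drop 1).drop 1).drop 1).drop 1).drop 1).drop 1).drop 1).drop 1).drop 1).drop 1).drop 1).drop 1).drop 1).drop 1).drop 1).drop 1).drop 1).drop 1).drop 1).drop 1).drop 1).drop 1).drop 1).drop 1).drop 1).drop 1).drop 1).drop 1).drop 1).drop 1).drop 1).drop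 1).drop 1).drop 1).drop 1).drop 1).drop 1).drop 1).drop 1).drop 1).drop 1).drop 1).drop 1).drop 1).drop 1).drop 1).drop 1).drop 1).drop 1).drop 1).drop 1).drop 1).drop 1).drop 1).drop 1).drop 1).drop 1).drop 1).drop 1).drop 1).drop 1).drop 1).drop 1).drop 1).drop 1).take 1) = true := by decide +kernel

theorem clT_134 : chkR P L 0 248 ((((((((((((((((((((((((((((((((((((((((((((((((((((((((((((((((((((((((((((((((((((((((((((((((((((((((((((((((((((((((((((((((((((((((dcClaims 64 66 cjT repsT).drop 2).drop 2).drop 2).drop 2).drop 12).drop 1).drop 1).drop 2).drop 1).drop 2).drop 1).drop 1).drop 1).drop 1).drop 2).drop 1).drop 1).drop 1).drop 1).drop 2).drop 2).drop 1).drop 1).drop 1).drop 1).drop 1).drop 1).drop 1).drop 1).drop 1).drop 1).drop 1).drop 1).drop 1).drop 1).drop 1).drop 2).drop 1).drop 1).drop 1).drop 1).drop 1).drop 1).drop 1).drop 1).drop 1).drop 1).drop 1).drop 1).drop 1).drop 1).drop 1).drop 1).drop 1).drop 1).drop 1).drop 1).drop 1).drop 1).drop 1).drop 1).drop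 2).drop 1).drop 1).drop 1).drop 1).drop 1).drop 1).drop 1).drop 1).drop 1).drop 1).drop 1).drop 1).drop 1).drop 1).drop 1).drop 1).drop 1).drop 1).drop 1).drop 1).drop 1).drop 1).drop 1).drop 1).drop 1).drop 1).drop 1).drop 1).drop 1).drop 1).drop 1).drop 1).drop 1).drop 1).drop 1).drop 1).drop 1).drop 1).drop 1).drop 1).drop 1).drop 1).drop 1).drop 1).drop 1).drop 1).drop 1).drop 1).drop 1).drop 1).drop 1).drop 1).drop 1).drop 1).drop 1).drop 1).drop 1).drop 1).drop 1).drop 1).drop 1).drop 1).drop 1).drop 1).drop 1).drop 1).drop 1).drop 1).drop 1).drop 1).drop 1).drop 1).take 1) = true := by decide +kernel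

theorem clT_135 : chkR P L 0 248 (((((((((((((((((((((((((((((((((((((((((((((((((((((((((((((((((((((((((((((((((((((((((((((((((((((((((((((((((((((((((((((((((((((((((dcClaims 64 66 cjT repsT).drop 2).drop 2).drop 2).drop 2).drop 12).drop 1).drop 1).drop 2).drop 1).drop 2).drop 1).drop 1).drop 1).drop 1).drop 2).drop 1).drop 1).drop 1).drop 1).drop 2).drop 2).drop 1).drop 1).drop 1).drop 1).drop 1).drop 1).drop 1).drop 1).drop 1).drop 1).drop 1).drop 1).drop 1).drop 1).drop 1).drop 2).drop 1).drop 1).drop 1).drop 1).drop 1).drop 1).drop 1).drop 1).drop 1).drop 1).drop 1).drop 1).drop 1).drop 1).drop 1).drop 1).drop 1).drop 1).drop 1).drop 1).drop 1).drop 1).drop 1).drop 1).drop 2).drop 1).drop 1).drop 1).drop 1).drop 1).drop 1).drop 1).drop 1).drop 1).drop 1).drop 1).drop 1).drop 1).drop 1).drop 1).drop 1).drop 1).drop 1).drop 1).drop 1).drop 1).drop 1).drop 1).drop 1).drop 1).drop 1).drop 1).drop 1).drop 1).drop 1).drop 1).drop 1).drop 1).drop 1).drop 1).drop 1).drop 1).drop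 1).drop 1).drop 1).drop 1).drop 1).drop 1).drop 1).drop 1).drop 1).drop 1).drop 1).drop 1).drop 1).drop 1).drop 1).drop 1).drop 1).drop 1).drop 1).drop 1).drop 1).drop 1).drop 1).drop 1).drop 1).drop 1).drop 1).drop 1).drop 1).drop 1).drop 1).drop 1).drop 1).drop 1).drop 1).drop 1).take 1) = true := by decide +kernel

theorem clT_136 : chkR P L 0 248 ((((((((((((((((((((((((((((((((((((((((((((((((((((((((((((((((((((((((((((((((((((((((((((((((((((((((((((((((((((((((((((((((((((((((((dcClaims 64 66 cjT repsT).drop 2).drop 2).drop 2).drop 2).drop 12).drop 1).drop 1).drop 2).drop 1).drop 2).drop 1).drop 1).drop 1).drop 1).drop 2).drop 1).drop 1).drop 1).drop 1).drop 2).drop 2).drop 1).drop 1).drop 1).drop 1).drop 1).drop 1).drop 1).drop 1).drop 1).drop 1).drop 1).drop 1).drop 1).drop 1).drop 1).drop 2).drop 1).drop 1).drop 1).drop 1).drop 1).drop 1).drop 1).drop 1).drop 1).drop 1).drop 1).drop 1).drop 1).drop 1).drop 1).drop 1).drop 1).drop 1).drop 1).drop 1).drop 1).drop 1).drop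 1).drop 1).drop 2).drop 1).drop 1).drop 1).drop 1).drop 1).drop 1).drop 1).drop 1).drop 1).drop 1).drop 1).drop 1).drop 1).drop 1).drop 1).drop 1).drop 1).drop 1).drop 1).drop 1).drop 1).drop 1).drop 1).drop 1).drop 1).drop 1).drop 1).drop 1).drop 1).drop 1).drop 1).drop 1).drop 1).drop 1).drop 1).drop 1).drop 1).drop 1).drop 1).drop 1).drop 1).drop 1).drop 1).drop 1).drop 1).drop 1).drop 1).drop 1).drop 1).drop 1).drop 1).drop 1).drop 1).drop 1).drop 1).drop 1).drop 1).drop 1).drop 1).drop 1).drop 1).drop 1).drop 1).drop 1).drop 1).drop 1).drop 1).drop 1).drop 1).drop 1).drop 1).drop 1).drop 1).drop 1).take 1) = true := by decide +kernel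

theorem clT_137 : chkR P L 0 248 (((((((((((((((((((((((((((((((((((((((((((((((((((((((((((((((((((((((((((((((((((((((((((((((((((((((((((((((((((((((((((((((((((((((((((dcClaims 64 66 cjT repsT).drop 2).drop 2).drop 2).drop 2).drop 12).drop 1).drop 1).drop 2).drop 1).drop 2).drop 1).drop 1).drop 1).drop 1).drop 2).drop 1).drop 1).drop 1).drop 1).drop 2).drop 2).drop 1).drop 1).drop 1).drop 1).drop 1).drop 1).drop 1).drop 1).drop 1).drop 1).drop 1).drop 1).drop 1).drop 1).drop 1).drop 2).drop 1).drop 1).drop 1).drop 1).drop 1).drop 1).drop 1).drop 1).drop 1).drop 1).drop 1).drop 1).drop 1).drop 1).drop 1).drop 1).drop 1).drop 1).drop 1).drop 1).drop 1).drop 1).drop 1).drop 1).drop 2).drop 1).drop 1).drop 1).drop 1).drop 1).drop 1).drop 1).drop 1).drop 1).drop 1).drop 1).drop 1).drop 1).drop 1).drop 1).drop 1).drop 1).drop 1).drop 1).drop 1).drop 1).drop 1).drop 1).drop 1).drop 1).drop 1).drop 1).drop 1).drop 1).drop 1).drop 1).drop 1).drop 1).drop 1).drop 1).drop 1).drop 1).drop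 1).drop 1).drop 1).drop 1).drop 1).drop 1).drop 1).drop 1).drop 1).drop 1).drop 1).drop 1).drop 1).drop 1).drop 1).drop 1).drop 1).drop 1).drop 1).drop 1).drop 1).drop 1).drop 1).drop 1).drop 1).drop 1).drop 1).drop 1).drop 1).drop 1).drop 1).drop 1).drop 1).drop 1).drop 1).drop 1).drop 1).drop 1).take 1) = true := by decide +kernel

theorem clT_138 : chkR P L 0 248 ((((((((((((((((((((((((((((((((((((((((((((((((((((((((((((((((((((((((((((((((((((((((((((((((((((((((((((((((((((((((((((((((((((((((((((dcClaims 64 66 cjT repsT).drop 2).drop 2).drop 2).drop 2).drop 12).drop 1).drop 1).drop 2).drop 1).drop 2).drop 1).drop 1).drop 1).drop 1).drop 2).drop 1).drop 1).drop 1).drop 1).drop 2).drop 2).drop 1).drop 1).drop 1).drop 1).drop 1).drop 1).drop 1).drop 1).drop 1).drop 1).drop 1).drop 1).drop 1).drop 1).drop 1).drop 2).drop 1).drop 1).drop 1).drop 1).drop 1).drop 1).drop 1).drop 1).drop 1).drop 1).drop 1).drop 1).drop 1).drop 1).drop 1).drop 1).drop 1).drop 1).drop 1).drop 1).drop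 1).drop 1).drop 1).drop 1).drop 2).drop 1).drop 1).drop 1).drop 1).drop 1).drop 1).drop 1).drop 1).drop 1).drop 1).drop 1).drop 1).drop 1).drop 1).drop 1).drop 1).drop 1).drop 1).drop 1).drop 1).drop 1).drop 1).drop 1).drop 1).drop 1).drop 1).drop 1).drop 1).drop 1).drop 1).drop 1).drop 1).drop 1).drop 1).drop 1).drop 1).drop 1).drop 1).drop 1).drop 1).drop 1).drop 1).drop 1).drop 1).drop 1).drop 1).drop 1).drop 1).drop 1).drop 1).drop 1).drop 1).drop 1).drop 1).drop 1).drop 1).drop 1).drop 1).drop 1).drop 1).drop 1).drop 1).drop 1).drop 1).drop 1).drop 1).drop 1).drop 1).drop 1).drop 1).drop 1).drop 1).drop 1).drop 1).drop 1).drop 1).take 1) = true := by decide +kernel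

theorem clT_139 : chkR P L 0 248 (((((((((((((((((((((((((((((((((((((((((((((((((((((((((((((((((((((((((((((((((((((((((((((((((((((((((((((((((((((((((((((((((((((((((((((dcClaims 64 66 cjT repsT).drop 2).drop 2).drop 2).drop 2).drop 12).drop 1).drop 1).drop 2).drop 1).drop 2).drop 1).drop 1).drop 1).drop 1).drop 2).drop 1).drop 1).drop 1).drop 1).drop 2).drop 2).drop 1).drop 1).drop 1).drop 1).drop 1).drop 1).drop 1).drop 1).drop 1).drop 1).drop 1).drop 1).drop 1).drop 1).drop 1).drop 2).drop 1).drop 1).drop 1).drop 1).drop 1).drop 1).drop 1).drop 1).drop 1).drop 1).drop 1).drop 1).drop 1).drop 1).drop 1).drop 1).drop 1).drop 1).drop 1).drop 1).drop 1).drop 1).drop 1).drop 1).drop 2).drop 1).drop 1).drop 1).drop 1).drop 1).drop 1).drop 1).drop 1).drop 1).drop 1).drop 1).drop 1).drop 1).drop 1).drop 1).drop 1).drop 1).drop 1).drop 1).drop 1).drop 1).drop 1).drop 1).drop 1).drop 1).drop 1).drop 1).drop 1).drop 1).drop 1).drop 1).drop 1).drop 1).drop 1).drop 1).drop 1).drop 1).drop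 1).drop 1).drop 1).drop 1).drop 1).drop 1).drop 1).drop 1).drop 1).drop 1).drop 1).drop 1).drop 1).drop 1).drop 1).drop 1).drop 1).drop 1).drop 1).drop 1).drop 1).drop 1).drop 1).drop 1).drop 1).drop 1).drop 1).drop 1).drop 1).drop 1).drop 1).drop 1).drop 1).drop 1).drop 1).drop 1).drop 1).drop 1).drop 1).drop 1).take 1) = true := by decide +kernel

theorem clT_140 : chkR P L 0 248 ((((((((((((((((((((((((((((((((((((((((((((((((((((((((((((((((((((((((((((((((((((((((((((((((((((((((((((((((((((((((((((((((((((((((((((((dcClaims 64 66 cjT repsT).drop 2).drop 2).drop 2).drop 2).drop 12).drop 1).drop 1).drop 2).drop 1).drop 2).drop 1).drop 1).drop 1).drop 1).drop 2).drop 1).drop 1).drop 1).drop 1).drop 2).drop 2).drop 1).drop 1).drop 1).drop 1).drop 1).drop 1).drop 1).drop 1).drop 1).drop 1).drop 1).drop 1).drop 1).drop 1).drop 1).drop 2).drop 1).drop 1).drop 1).drop 1).drop 1).drop 1).drop 1).drop 1).drop 1).drop 1).drop 1).drop 1).drop 1).drop 1).drop 1).drop 1).drop 1).drop 1).drop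 1).drop 1).drop 1).drop 1).drop 1).drop 1).drop 2).drop 1).drop 1).drop 1).drop 1).drop 1).drop 1).drop 1).drop 1).drop 1).drop 1).drop 1).drop 1).drop 1).drop 1).drop 1).drop 1).drop 1).drop 1).drop 1).drop 1).drop 1).drop 1).drop 1).drop 1).drop 1).drop 1).drop 1).drop 1).drop 1).drop 1).drop 1).drop 1).drop 1).drop 1).drop 1).drop 1).drop 1).drop 1).drop 1).drop 1).drop 1).drop 1).drop 1).drop 1).drop 1).drop 1).drop 1).drop 1).drop 1).drop 1).drop 1).drop 1).drop 1).drop 1).drop 1).drop 1).drop 1).drop 1).drop 1).drop 1).drop 1).drop 1).drop 1).drop 1).drop 1).drop 1).drop 1).drop 1).drop 1).drop 1).drop 1).drop 1).drop 1).drop 1).drop 1).drop 1).drop 1).drop 1).take 1) = true := by decide +kernel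

theorem clT_141 : chkR P L 0 248 (((((((((((((((((((((((((((((((((((((((((((((((((((((((((((((((((((((((((((((((((((((((((((((((((((((((((((((((((((((((((((((((((((((((((((((((dcClaims 64 66 cjT repsT).drop 2).drop 2).drop 2).drop 2).drop 12).drop 1).drop 1).drop 2).drop 1).drop 2).drop 1).drop 1).drop 1).drop 1).drop 2).drop 1).drop 1).drop 1).drop 1).drop 2).drop 2).drop 1).drop 1).drop 1).drop 1).drop 1).drop 1).drop 1).drop 1).drop 1).drop 1).drop 1).drop 1).drop 1).drop 1).drop 1).drop 2).drop 1).drop 1).drop 1).drop 1).drop 1).drop 1).drop 1).drop 1).drop 1).drop 1).drop 1).drop 1).drop 1).drop 1).drop 1).drop 1).drop 1).drop 1).drop 1).drop 1).drop 1).drop 1).drop 1).drop 1).drop 2).drop 1).drop 1).drop 1).drop 1).drop 1).drop 1).drop 1).drop 1).drop 1).drop 1).drop 1).drop 1).drop 1).drop 1).drop 1).drop 1).drop 1).drop 1).drop 1).drop 1).drop 1).drop 1).drop 1).drop 1).drop 1).drop 1).drop 1).drop 1).drop 1).drop 1).drop 1).drop 1).drop 1).drop 1).drop 1).drop 1).drop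 1).drop 1).drop 1).drop 1).drop 1).drop 1).drop 1).drop 1).drop 1).drop 1).drop 1).drop 1).drop 1).drop 1).drop 1).drop 1).drop 1).drop 1).drop 1).drop 1).drop 1).drop 1).drop 1).drop 1).drop 1).drop 1).drop 1).drop 1).drop 1).drop 1).drop 1).drop 1).drop 1).drop 1).drop 1).drop 1).drop 1).drop 1).drop 1).drop 1).drop 1).drop 1).drop 1).take 1) = true := by decide +kernel

theorem clT_142 : chkR P L 0 248 ((((((((((((((((((((((((((((((((((((((((((((((((((((((((((((((((((((((((((((((((((((((((((((((((((((((((((((((((((((((((((((((((((((((((((((((((dcClaims 64 66 cjT repsT).drop 2).drop 2).drop 2).drop 2).drop 12).drop 1).drop 1).drop 2).drop 1).drop 2).drop 1).drop 1).drop 1).drop 1).drop 2).drop 1).drop 1).drop 1).drop 1).drop 2).drop 2).drop 1).drop 1).drop 1).drop 1).drop 1).drop 1).drop 1).drop 1).drop 1).drop 1).drop 1).drop 1).drop 1).drop 1).drop 1).drop 2).drop 1).drop 1).drop 1).drop 1).drop 1).drop 1).drop 1).drop 1).drop 1).drop 1).drop 1).drop 1).drop 1).drop 1).drop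 1).drop 1).drop 1).drop 1).drop 1).drop 1).drop 1).drop 1).drop 1).drop 1).drop 2).drop 1).drop 1).drop 1).drop 1).drop 1).drop 1).drop 1).drop 1).drop 1).drop 1).drop 1).drop 1).drop 1).drop 1).drop 1).drop 1).drop 1).drop 1).drop 1).drop 1).drop 1).drop 1).drop 1).drop 1).drop 1).drop 1).drop 1).drop 1).drop 1).drop 1).drop 1).drop 1).drop 1).drop 1).drop 1).drop 1).drop 1).drop 1).drop 1).drop 1).drop 1).drop 1).drop 1).drop 1).drop 1).drop 1).drop 1).drop 1).drop 1).drop 1).drop 1).drop 1).drop 1).drop 1).drop 1).drop 1).drop 1).drop 1).drop 1).drop 1).drop 1).drop 1).drop 1).drop 1).drop 1).drop 1).drop 1).drop 1).drop 1).drop 1).drop 1).drop 1).drop 1).drop 1).drop 1).drop 1).drop 1).drop 1).drop 1).drop 1).take 1) = true := by decide +kernel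

theorem clT_143 : chkR P L 0 248 (((((((((((((((((((((((((((((((((((((((((((((((((((((((((((((((((((((((((((((((((((((((((((((((((((((((((((((((((((((((((((((((((((((((((((((((((dcClaims 64 66 cjT repsT).drop 2).drop 2).drop 2).drop 2).drop 12).drop 1).drop 1).drop 2).drop 1).drop 2).drop 1).drop 1).drop 1).drop 1).drop 2).drop 1).drop 1).drop 1).drop 1).drop 2).drop 2).drop 1).drop 1).drop 1).drop 1).drop 1).drop 1).drop 1).drop 1).drop 1).drop 1).drop 1).drop 1).drop 1).drop 1).drop 1).drop 2).drop 1).drop 1).drop 1).drop 1).drop 1).drop 1).drop 1).drop 1).drop 1).drop 1).drop 1).drop 1).drop 1).drop 1).drop 1).drop 1).drop 1).drop 1).drop 1).drop 1).drop 1).drop 1).drop 1).drop 1).drop 2).drop 1).drop 1).drop 1).drop 1).drop 1).drop 1).drop 1).drop 1).drop 1).drop 1).drop 1).drop 1).drop 1).drop 1).drop 1).drop 1).drop 1).drop 1).drop 1).drop 1).drop 1).drop 1).drop 1).drop 1).drop 1).drop 1).drop 1).drop 1).drop 1).drop 1).drop 1).drop 1).drop 1).drop 1).drop 1).drop 1).drop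 1).drop 1).drop 1).drop 1).drop 1).drop 1).drop 1).drop 1).drop 1).drop 1).drop 1).drop 1).drop 1).drop 1).drop 1).drop 1).drop 1).drop 1).drop 1).drop 1).drop 1).drop 1).drop 1).drop 1).drop 1).drop 1).drop 1).drop 1).drop 1).drop 1).drop 1).drop 1).drop 1).drop 1).drop 1).drop 1).drop 1).drop 1).drop 1).drop 1).drop 1).drop 1).drop 1).drop 1).drop 1).take 1) = true := by decide +kernel

theorem clT_144 : chkR P L 0 248 ((((((((((((((((((((((((((((((((((((((((((((((((((((((((((((((((((((((((((((((((((((((((((((((((((((((((((((((((((((((((((((((((((((((((((((((((((dcClaims 64 66 cjT repsT).drop 2).drop 2).drop 2).drop 2).drop 12).drop 1).drop 1).drop 2).drop 1).drop 2).drop 1).drop 1).drop 1).drop 1).drop 2).drop 1).drop 1).drop 1).drop 1).drop 2).drop 2).drop 1).drop 1).drop 1).drop 1).drop 1).drop 1).drop 1).drop 1).drop 1).drop 1).drop 1).drop 1).drop 1).drop 1).drop 1).drop 2).drop 1).drop 1).drop 1).drop 1).drop 1).drop 1).drop 1).drop 1).drop 1).drop 1).drop 1).drop 1).drop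 1).drop 1).drop 1).drop 1).drop 1).drop 1).drop 1).drop 1).drop 1).drop 1).drop 1).drop 1).drop 2).drop 1).drop 1).drop 1).drop 1).drop 1).drop 1).drop 1).drop 1).drop 1).drop 1).drop 1).drop 1).drop 1).drop 1).drop 1).drop 1).drop 1).drop 1).drop 1).drop 1).drop 1).drop 1).drop 1).drop 1).drop 1).drop 1).drop 1).drop 1).drop 1).drop 1).drop 1).drop 1).drop 1).drop 1).drop 1).drop 1).drop 1).drop 1).drop 1).drop 1).drop 1).drop 1).drop 1).drop 1).drop 1).drop 1).drop 1).drop 1).drop 1).drop 1).drop 1).drop 1).drop 1).drop 1).drop 1).drop 1).drop 1).drop 1).drop 1).drop 1).drop 1).drop 1).drop 1).drop 1).drop 1).drop 1).drop 1).drop 1).drop 1).drop 1).drop 1).drop 1).drop 1).drop 1).drop 1).drop 1).drop 1).drop 1).drop 1).drop 1).drop 1).drop 1).take 1) = true := by decide +kernel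

theorem clT_145 : chkR P L 0 248 (((((((((((((((((((((((((((((((((((((((((((((((((((((((((((((((((((((((((((((((((((((((((((((((((((((((((((((((((((((((((((((((((((((((((((((((((((dcClaims 64 66 cjT repsT).drop 2).drop 2).drop 2).drop 2).drop 12).drop 1).drop 1).drop 2).drop 1).drop 2).drop 1).drop 1).drop 1).drop 1).drop 2).drop 1).drop 1).drop 1).drop 1).drop 2).drop 2).drop 1).drop 1).drop 1).drop 1).drop 1).drop 1).drop 1).drop 1).drop 1).drop 1).drop 1).drop 1).drop 1).drop 1).drop 1).drop 2).drop 1).drop 1).drop 1).drop 1).drop 1).drop 1).drop 1).drop 1).drop 1).drop 1).drop 1).drop 1).drop 1).drop 1).drop 1).drop 1).drop 1).drop 1).drop 1).drop 1).drop 1).drop 1).drop 1).drop 1).drop 2).drop 1).drop 1).drop 1).drop 1).drop 1).drop 1).drop 1).drop 1).drop 1).drop 1).drop 1).drop 1).drop 1).drop 1).drop 1).drop 1).drop 1).drop 1).drop 1).drop 1).drop 1).drop 1).drop 1).drop 1).drop 1).drop 1).drop 1).drop 1).drop 1).drop 1).drop 1).drop 1).drop 1).drop 1).drop 1).drop 1).drop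 1).drop 1).drop 1).drop 1).drop 1).drop 1).drop 1).drop 1).drop 1).drop 1).drop 1).drop 1).drop 1).drop 1).drop 1).drop 1).drop 1).drop 1).drop 1).drop 1).drop 1).drop 1).drop 1).drop 1).drop 1).drop 1).drop 1).drop 1).drop 1).drop 1).drop 1).drop 1).drop 1).drop 1).drop 1).drop 1).drop 1).drop 1).drop 1).drop 1).drop 1).drop 1).drop 1).drop 1).drop 1).drop 1).drop 1).take 1) = true := by decide +kernel

theorem clT_146 : chkR P L 0 248 ((((((((((((((((((((((((((((((((((((((((((((((((((((((((((((((((((((((((((((((((((((((((((((((((((((((((((((((((((((((((((((((((((((((((((((((((((((dcClaims 64 66 cjT repsT).drop 2).drop 2).drop 2).drop 2).drop 12).drop 1).drop 1).drop 2).drop 1).drop 2).drop 1).drop 1).drop 1).drop 1).drop 2).drop 1).drop 1).drop 1).drop 1).drop 2).drop 2).drop 1).drop 1).drop 1).drop 1).drop 1).drop 1).drop 1).drop 1).drop 1).drop 1).drop 1).drop 1).drop 1).drop 1).drop 1).drop 2).drop 1).drop 1).drop 1).drop 1).drop 1).drop 1).drop 1).drop 1).drop 1).drop 1).drop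 1).drop 1).drop 1).drop 1).drop 1).drop 1).drop 1).drop 1).drop 1).drop 1).drop 1).drop 1).drop 1).drop 1).drop 2).drop 1).drop 1).drop 1).drop 1).drop 1).drop 1).drop 1).drop 1).drop 1).drop 1).drop 1).drop 1).drop 1).drop 1).drop 1).drop 1).drop 1).drop 1).drop 1).drop 1).drop 1).drop 1).drop 1).drop 1).drop 1).drop 1).drop 1).drop 1).drop 1).drop 1).drop 1).drop 1).drop 1).drop 1).drop 1).drop 1).drop 1).drop 1).drop 1).drop 1).drop 1).drop 1).drop 1).drop 1).drop 1).drop 1).drop 1).drop 1).drop 1).drop 1).drop 1).drop 1).drop 1).drop 1).drop 1).drop 1).drop 1).drop 1).drop 1).drop 1).drop 1).drop 1).drop 1).drop 1).drop 1).drop 1).drop 1).drop 1).drop 1).drop 1).drop 1).drop 1).drop 1).drop 1).drop 1).drop 1).drop 1).drop 1).drop 1).drop 1).drop 1).drop 1).drop 1).drop 1).take 1) = true := by decide +kernel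

theorem clT_147 : chkR P L 0 248 (((((((((((((((((((((((((((((((((((((((((((((((((((((((((((((((((((((((((((((((((((((((((((((((((((((((((((((((((((((((((((((((((((((((((((((((((((((dcClaims 64 66 cjT repsT).drop 2).drop 2).drop 2).drop 2).drop 12).drop 1).drop 1).drop 2).drop 1).drop 2).drop 1).drop 1).drop 1).drop 1).drop 2).drop 1).drop 1).drop 1).drop 1).drop 2).drop 2).drop 1).drop 1).drop 1).drop 1).drop 1).drop 1).drop 1).drop 1).drop 1).drop 1).drop 1).drop 1).drop 1).drop 1).drop 1).drop 2).drop 1).drop 1).drop 1).drop 1).drop 1).drop 1).drop 1).drop 1).drop 1).drop 1).drop 1).drop 1).drop 1).drop 1).drop 1).drop 1).drop 1).drop 1).drop 1).drop 1).drop 1).drop 1).drop 1).drop 1).drop 2).drop 1).drop 1).drop 1).drop 1).drop 1).drop 1).drop 1).drop 1).drop 1).drop 1).drop 1).drop 1).drop 1).drop 1).drop 1).drop 1).drop 1).drop 1).drop 1).drop 1).drop 1).drop 1).drop 1).drop 1).drop 1).drop 1).drop 1).drop 1).drop 1).drop 1).drop 1).drop 1).drop 1).drop 1).drop 1).drop 1).drop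 1).drop 1).drop 1).drop 1).drop 1).drop 1).drop 1).drop 1).drop 1).drop 1).drop 1).drop 1).drop 1).drop 1).drop 1).drop 1).drop 1).drop 1).drop 1).drop 1).drop 1).drop 1).drop 1).drop 1).drop 1).drop 1).drop 1).drop 1).drop 1).drop 1).drop 1).drop 1).drop 1).drop 1).drop 1).drop 1).drop 1).drop 1).drop 1).drop 1).drop 1).drop 1).drop 1).drop 1).drop 1).drop 1).drop 1).drop 1).drop 1).take 1) = true := by decide +kernel

theorem clT_148 : chkR P L 0 248 ((((((((((((((((((((((((((((((((((((((((((((((((((((((((((((((((((((((((((((((((((((((((((((((((((((((((((((((((((((((((((((((((((((((((((((((((((((((dcClaims 64 66 cjT repsT).drop 2).drop 2).drop 2).drop 2).drop 12).drop 1).drop 1).drop 2).drop 1).drop 2).drop 1).drop 1).drop 1).drop 1).drop 2).drop 1).drop 1).drop 1).drop 1).drop 2).drop 2).drop 1).drop 1).drop 1).drop 1).drop 1).drop 1).drop 1).drop 1).drop 1).drop 1).drop 1).drop 1).drop 1).drop 1).drop 1).drop 2).drop 1).drop 1).drop 1).drop 1).drop 1).drop 1).drop 1).drop 1).drop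 1).drop 1).drop 1).drop 1).drop 1).drop 1).drop 1).drop 1).drop 1).drop 1).drop 1).drop 1).drop 1).drop 1).drop 1).drop 1).drop 2).drop 1).drop 1).drop 1).drop 1).drop 1).drop 1).drop 1).drop 1).drop 1).drop 1).drop 1).drop 1).drop 1).drop 1).drop 1).drop 1).drop 1).drop 1).drop 1).drop 1).drop 1).drop 1).drop 1).drop 1).drop 1).drop 1).drop 1).drop 1).drop 1).drop 1).drop 1).drop 1).drop 1).drop 1).drop 1).drop 1).drop 1).drop 1).drop 1).drop 1).drop 1).drop 1).drop 1).drop 1).drop 1).drop 1).drop 1).drop 1).drop 1).drop 1).drop 1).drop 1).drop 1).drop 1).drop 1).drop 1).drop 1).drop 1).drop 1).drop 1).drop 1).drop 1).drop 1).drop 1).drop 1).drop 1).drop 1).drop 1).drop 1).drop 1).drop 1).drop 1).drop 1).drop 1).drop 1).drop 1).drop 1).drop 1).drop 1).drop 1).drop 1).drop 1).drop 1).drop 1).drop 1).drop 1).take 1) = true := by decide +kernel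

theorem clT_149 : chkR P L 0 248 (((((((((((((((((((((((((((((((((((((((((((((((((((((((((((((((((((((((((((((((((((((((((((((((((((((((((((((((((((((((((((((((((((((((((((((((((((((((dcClaims 64 66 cjT repsT).drop 2).drop 2).drop 2).drop 2).drop 12).drop 1).drop 1).drop 2).drop 1).drop 2).drop 1).drop 1).drop 1).drop 1).drop 2).drop 1).drop 1).drop 1).drop 1).drop 2).drop 2).drop 1).drop 1).drop 1).drop 1).drop 1).drop 1).drop 1).drop 1).drop 1).drop 1).drop 1).drop 1).drop 1).drop 1).drop 1).drop 2).drop 1).drop 1).drop 1).drop 1).drop 1).drop 1).drop 1).drop 1).drop 1).drop 1).drop 1).drop 1).drop 1).drop 1).drop 1).drop 1).drop 1).drop 1).drop 1).drop 1).drop 1).drop 1).drop 1).drop 1).drop 2).drop 1).drop 1).drop 1).drop 1).drop 1).drop 1).drop 1).drop 1).drop 1).drop 1).drop 1).drop 1).drop 1).drop 1).drop 1).drop 1).drop 1).drop 1).drop 1).drop 1).drop 1).drop 1).drop 1).drop 1).drop 1).drop 1).drop 1).drop 1).drop 1).drop 1).drop 1).drop 1).drop 1).drop 1).drop 1).drop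 1).drop 1).drop 1).drop 1).drop 1).drop 1).drop 1).drop 1).drop 1).drop 1).drop 1).drop 1).drop 1).drop 1).drop 1).drop 1).drop 1).drop 1).drop 1).drop 1).drop 1).drop 1).drop 1).drop 1).drop 1).drop 1).drop 1).drop 1).drop 1).drop 1).drop 1).drop 1).drop 1).drop 1).drop 1).drop 1).drop 1).drop 1).drop 1).drop 1).drop 1).drop 1).drop 1).drop 1).drop 1).drop 1).drop 1).drop 1).drop 1).drop 1).drop 1).drop 1).take 1) = true := by decide +kernel

theorem clT_150 : chkR P L 0 248 ((((((((((((((((((((((((((((((((((((((((((((((((((((((((((((((((((((((((((((((((((((((((((((((((((((((((((((((((((((((((((((((((((((((((((((((((((((((((dcClaims 64 66 cjT repsT).drop 2).drop 2).drop 2).drop 2).drop 12).drop 1).drop 1).drop 2).drop 1).drop 2).drop 1).drop 1).drop 1).drop 1).drop 2).drop 1).drop 1).drop 1).drop 1).drop 2).drop 2).drop 1).drop 1).drop 1).drop 1).drop 1).drop 1).drop 1).drop 1).drop 1).drop 1).drop 1).drop 1).drop 1).drop 1).drop 1).drop 2).drop 1).drop 1).drop 1).drop 1).drop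 1).drop 1).drop 1).drop 1).drop 1).drop 1).drop 1).drop 1).drop 1).drop 1).drop 1).drop 1).drop 1).drop 1).drop 1).drop 1).drop 1).drop 1).drop 1).drop 1).drop 2).drop 1).drop 1).drop 1).drop 1).drop 1).drop 1).drop 1).drop 1).drop 1).drop 1).drop 1).drop 1).drop 1).drop 1).drop 1).drop 1).drop 1).drop 1).drop 1).drop 1).drop 1).drop 1).drop 1).drop 1).drop 1).drop 1).drop 1).drop 1).drop 1).drop 1).drop 1).drop 1).drop 1).drop 1).drop 1).drop 1).drop 1).drop 1).drop 1).drop 1).drop 1).drop 1).drop 1).drop 1).drop 1).drop 1).drop 1).drop 1).drop 1).drop 1).drop 1).drop 1).drop 1).drop 1).drop 1).drop 1).drop 1).drop 1).drop 1).drop 1).drop 1).drop 1).drop 1).drop 1).drop 1).drop 1).drop 1).drop 1).drop 1).drop 1).drop 1).drop 1).drop 1).drop 1).drop 1).drop 1).drop 1).drop 1).drop 1).drop 1).drop 1).drop 1).drop 1).drop 1).drop 1).drop 1).drop 1).drop 1).take 1) = true := by decide +kernel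

theorem clT_151 : chkR P L 0 248 (((((((((((((((((((((((((((((((((((((((((((((((((((((((((((((((((((((((((((((((((((((((((((((((((((((((((((((((((((((((((((((((((((((((((((((((((((((((((dcClaims 64 66 cjT repsT).drop 2).drop 2).drop 2).drop 2).drop 12).drop 1).drop 1).drop 2).drop 1).drop 2).drop 1).drop 1).drop 1).drop 1).drop 2).drop 1).drop 1).drop 1).drop 1).drop 2).drop 2).drop 1).drop 1).drop 1).drop 1).drop 1).drop 1).drop 1).drop 1).drop 1).drop 1).drop 1).drop 1).drop 1).drop 1).drop 1).drop 2).drop 1).drop 1).drop 1).drop 1).drop 1).drop 1).drop 1).drop 1).drop 1).drop 1).drop 1).drop 1).drop 1).drop 1).drop 1).drop 1).drop 1).drop 1).drop 1).drop 1).drop 1).drop 1).drop 1).drop 1).drop 2).drop 1).drop 1).drop 1).drop 1).drop 1).drop 1).drop 1).drop 1).drop 1).drop 1).drop 1).drop 1).drop 1).drop 1).drop 1).drop 1).drop 1).drop 1).drop 1).drop 1).drop 1).drop 1).drop 1).drop 1).drop 1).drop 1).drop 1).drop 1).drop 1).drop 1).drop 1).drop 1).drop 1).drop 1).drop 1).drop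 1).drop 1).drop 1).drop 1).drop 1).drop 1).drop 1).drop 1).drop 1).drop 1).drop 1).drop 1).drop 1).drop 1).drop 1).drop 1).drop 1).drop 1).drop 1).drop 1).drop 1).drop 1).drop 1).drop 1).drop 1).drop 1).drop 1).drop 1).drop 1).drop 1).drop 1).drop 1).drop 1).drop 1).drop 1).drop 1).drop 1).drop 1).drop 1).drop 1).drop 1).drop 1).drop 1).drop 1).drop 1).drop 1).drop 1).drop 1).drop 1).drop 1).drop 1).drop 1).drop 1).drop 1).take 1) = true := by decide +kernel

end Cfsg.Agent.Spor.Th
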