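import Cfsg.Agent.Lib.Spor.Th.Data
import Cfsg.Agent.Lib.Spor.ThA.Defs
import Cfsg.Agent.Lib.Spor.Th.Top

set_option autoImplicit false
set_option maxRecDepth 100000
set_option Elab.async false
set_option exponentiation.threshold 100000

namespace Cfsg.Agent.Spor.Th
open Cfsg.Agent.PG Cfsg.Agent.Spor Cfsg.Agent.Spor.ThA

theorem clT_152 : chkR P L 0 248 ((((((((((((((((((((((((((((((((((((((((((((((((((((((((((((((((((((((((((((((((((((((((((((((((((((((((((((((((((((((((((((((((((((((((((((((((((((((((((dcClaims 64 66 cjT repsT).drop 2).drop 2).drop 2).drop 2).drop 12).drop 1).drop 1).drop 2).drop 1).drop 2).drop 1).drop 1).drop 1).drop 1).drop 2).drop 1).drop 1).drop 1).drop 1).drop 2).drop 2).drop 1).drop 1).drop 1).drop 1).drop 1).drop 1).drop 1).drop 1).drop 1).drop 1).drop 1).drop 1).drop 1).drop 1).drop 1).drop 2).drop 1).drop 1).drop 1).drop 1).drop 1).drop 1).drop 1).drop 1).drop 1).drop 1).drop 1).drop 1).drop 1).drop 1).drop 1).drop 1).drop 1).drop 1).drop 1).drop 1).drop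 1).drop 1).drop 1).drop 1).drop 2).drop 1).drop 1).drop 1).drop 1).drop 1).drop 1).drop 1).drop 1).drop 1).drop 1).drop 1).drop 1).drop 1).drop 1).drop 1).drop 1).drop 1).drop 1).drop 1).drop 1).drop 1).drop 1).drop 1).drop 1).drop 1).drop 1).drop 1).drop 1).drop 1).drop 1).drop 1).drop 1).drop 1).drop 1).drop 1).drop 1).drop 1).drop 1).drop 1).drop 1).drop 1).drop 1).drop 1).drop 1).drop 1).drop 1).drop 1).drop 1).drop 1).drop 1).drop 1).drop 1).drop 1).drop 1).drop 1).drop 1).drop 1).drop 1).drop 1).drop 1).drop 1).drop 1).drop 1).drop 1).drop 1).drop 1).drop 1).drop 1).drop 1).drop 1).drop 1).drop 1).drop 1).drop 1).drop 1).drop 1).drop 1).drop 1).drop 1).drop 1).drop 1).drop 1).drop 1).drop 1).drop 1).drop 1).drop 1).drop 1).drop 1).drop 1).take 1) = true := by decide +kernel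

theorem clT_153 : chkR P L 0 248 (((((((((((((((((((((((((((((((((((((((((((((((((((((((((((((((((((((((((((((((((((((((((((((((((((((((((((((((((((((((((((((((((((((((((((((((((((((((((((dcClaims 64 66 cjT repsT).drop 2).drop 2).drop 2).drop 2).drop 12).drop 1).drop 1).drop 2).drop 1).drop 2).drop 1).drop 1).drop 1).drop 1).drop 2).drop 1).drop 1).drop 1).drop 1).drop 2).drop 2).drop 1).drop 1).drop 1).drop 1).drop 1).drop 1).drop 1).drop 1).drop 1).drop 1).drop 1).drop 1).drop 1).drop 1).drop 1).drop 2).drop 1).drop 1).drop 1).drop 1).drop 1).drop 1).drop 1).drop 1).drop 1).drop 1).drop 1).drop 1).drop 1).drop 1).drop 1).drop 1).drop 1).drop 1).drop 1).drop 1).drop 1).drop 1).drop 1).drop 1).drop 2).drop 1).drop 1).drop 1).drop 1).drop 1).drop 1).drop 1).drop 1).drop 1).drop 1).drop 1).drop 1).drop 1).drop 1).drop 1).drop 1).drop 1).drop 1).drop 1).drop 1).drop 1).drop 1).drop 1).drop 1).drop 1).drop 1).drop 1).drop 1).drop 1).drop 1).drop 1).drop 1).drop 1).drop 1).drop 1).drop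 1).drop 1).drop 1).drop 1).drop 1).drop 1).drop 1).drop 1).drop 1).drop 1).drop 1).drop 1).drop 1).drop 1).drop 1).drop 1).drop 1).drop 1).drop 1).drop 1).drop 1).drop 1).drop 1).drop 1).drop 1).drop 1).drop 1).drop 1).drop 1).drop 1).drop 1).drop 1).drop 1).drop 1).drop 1).drop 1).drop 1).drop 1).drop 1).drop 1).drop 1).drop 1).drop 1).drop 1).drop 1).drop 1).drop 1).drop 1).drop 1).drop 1).drop 1).drop 1).drop 1).drop 1).drop 1).drop 1).take 1) = true := by decide +kernel

theorem clT_154 : chkR P L 0 248 ((((((((((((((((((((((((((((((((((((((((((((((((((((((((((((((((((((((((((((((((((((((((((((((((((((((((((((((((((((((((((((((((((((((((((((((((((((((((((((dcClaims 64 66 cjT repsT).drop 2).drop 2).drop 2).drop 2).drop 12).drop 1).drop 1).drop 2).drop 1).drop 2).drop 1).drop 1).drop 1).drop 1).drop 2).drop 1).drop 1).drop 1).drop 1).drop 2).drop 2).drop 1).drop 1).drop 1).drop 1).drop 1).drop 1).drop 1).drop 1).drop 1).drop 1).drop 1).drop 1).drop 1).drop 1).drop 1).drop 2).drop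 1).drop 1).drop 1).drop 1).drop 1).drop 1).drop 1).drop 1).drop 1).drop 1).drop 1).drop 1).drop 1).drop 1).drop 1).drop 1).drop 1).drop 1).drop 1).drop 1).drop 1).drop 1).drop 1).drop 1).drop 2).drop 1).drop 1).drop 1).drop 1).drop 1).drop 1).drop 1).drop 1).drop 1).drop 1).drop 1).drop 1).drop 1).drop 1).drop 1).drop 1).drop 1).drop 1).drop 1).drop 1).drop 1).drop 1).drop 1).drop 1).drop 1).drop 1).drop 1).drop 1).drop 1).drop 1).drop 1).drop 1).drop 1).drop 1).drop 1).drop 1).drop 1).drop 1).drop 1).drop 1).drop 1).drop 1).drop 1).drop 1).drop 1).drop 1).drop 1).drop 1).drop 1).drop 1).drop 1).drop 1).drop 1).drop 1).drop 1).drop 1).drop 1).drop 1).drop 1).drop 1).drop 1).drop 1).drop 1).drop 1).drop 1).drop 1).drop 1).drop 1).drop 1).drop 1).drop 1).drop 1).drop 1).drop 1).drop 1).drop 1).drop 1).drop 1).drop 1).drop 1).drop 1).drop 1).drop 1).drop 1).drop 1).drop 1).drop 1).drop 1).drop 1).drop 1).drop 1).drop 1).take 1) = true := by decide +kernel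

theorem clT_155 : chkR P L 0 248 (((((((((((((((((((((((((((((((((((((((((((((((((((((((((((((((((((((((((((((((((((((((((((((((((((((((((((((((((((((((((((((((((((((((((((((((((((((((((((((dcClaims 64 66 cjT repsT).drop 2).drop 2).drop 2).drop 2).drop 12).drop 1).drop 1).drop 2).drop 1).drop 2).drop 1).drop 1).drop 1).drop 1).drop 2).drop 1).drop 1).drop 1).drop 1).drop 2).drop 2).drop 1).drop 1).drop 1).drop 1).drop 1).drop 1).drop 1).drop 1).drop 1).drop 1).drop 1).drop 1).drop 1).drop 1).drop 1).drop 2).drop 1).drop 1).drop 1).drop 1).drop 1).drop 1).drop 1).drop 1).drop 1).drop 1).drop 1).drop 1).drop 1).drop 1).drop 1).drop 1).drop 1).drop 1).drop 1).drop 1).drop 1).drop 1).drop 1).drop 1).drop 2).drop 1).drop 1).drop 1).drop 1).drop 1).drop 1).drop 1).drop 1).drop 1).drop 1).drop 1).drop 1).drop 1).drop 1).drop 1).drop 1).drop 1).drop 1).drop 1).drop 1).drop 1).drop 1).drop 1).drop 1).drop 1).drop 1).drop 1).drop 1).drop 1).drop 1).drop 1).drop 1).drop 1).drop 1).drop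 1).drop 1).drop 1).drop 1).drop 1).drop 1).drop 1).drop 1).drop 1).drop 1).drop 1).drop 1).drop 1).drop 1).drop 1).drop 1).drop 1).drop 1).drop 1).drop 1).drop 1).drop 1).drop 1).drop 1).drop 1).drop 1).drop 1).drop 1).drop 1).drop 1).drop 1).drop 1).drop 1).drop 1).drop 1).drop 1).drop 1).drop 1).drop 1).drop 1).drop 1).drop 1).drop 1).drop 1).drop 1).drop 1).drop 1).drop 1).drop 1).drop 1).drop 1).drop 1).drop 1).drop 1).drop 1).drop 1).drop 1).drop 1).drop 1).take 1) = true := by decide +kernel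

theorem clT_156 : chkR P L 0 248 ((((((((((((((((((((((((((((((((((((((((((((((((((((((((((((((((((((((((((((((((((((((((((((((((((((((((((((((((((((((((((((((((((((((((((((((((((((((((((((((dcClaims 64 66 cjT repsT).drop 2).drop 2).drop 2).drop 2).drop 12).drop 1).drop 1).drop 2).drop 1).drop 2).drop 1).drop 1).drop 1).drop 1).drop 2).drop 1).drop 1).drop 1).drop 1).drop 2).drop 2).drop 1).drop 1).drop 1).drop 1).drop 1).drop 1).drop 1).drop 1).drop 1).drop 1).drop 1).drop 1).drop 1).drop 1).drop 1).drop 2).drop 1).drop 1).drop 1).drop 1).drop 1).drop 1).drop 1).drop 1).drop 1).drop 1).drop 1).drop 1).drop 1).drop 1).drop 1).drop 1).drop 1).drop 1).drop 1).drop 1).drop 1).drop 1).drop 1).drop 1).drop 2).drop 1).drop 1).drop 1).drop 1).drop 1).drop 1).drop 1).drop 1).drop 1).drop 1).drop 1).drop 1).drop 1).drop 1).drop 1).drop 1).drop 1).drop 1).drop 1).drop 1).drop 1).drop 1).drop 1).drop 1).drop 1).drop 1).drop 1).drop 1).drop 1).drop 1).drop 1).drop 1).drop 1).drop 1).drop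 1).drop 1).drop 1).drop 1).drop 1).drop 1).drop 1).drop 1).drop 1).drop 1).drop 1).drop 1).drop 1).drop 1).drop 1).drop 1).drop 1).drop 1).drop 1).drop 1).drop 1).drop 1).drop 1).drop 1).drop 1).drop 1).drop 1).drop 1).drop 1).drop 1).drop 1).drop 1).drop 1).drop 1).drop 1).drop 1).drop 1).drop 1).drop 1).drop 1).drop 1).drop 1).drop 1).drop 1).drop 1).drop 1).drop 1).drop 1).drop 1).drop 1).drop 1).drop 1).drop 1).drop 1).drop 1).drop 1).drop 1).drop 1).drop 1).drop 1).take 1) = true := by decide +kernel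

theorem clT_157 : chkR P L 0 248 (((((((((((((((((((((((((((((((((((((((((((((((((((((((((((((((((((((((((((((((((((((((((((((((((((((((((((((((((((((((((((((((((((((((((((((((((((((((((((((((dcClaims 64 66 cjT repsT).drop 2).drop 2).drop 2).drop 2).drop 12).drop 1).drop 1).drop 2).drop 1).drop 2).drop 1).drop 1).drop 1).drop 1).drop 2).drop 1).drop 1).drop 1).drop 1).drop 2).drop 2).drop 1).drop 1).drop 1).drop 1).drop 1).drop 1).drop 1).drop 1).drop 1).drop 1).drop 1).drop 1).drop 1).drop 1).drop 1).drop 2).drop 1).drop 1).drop 1).drop 1).drop 1).drop 1).drop 1).drop 1).drop 1).drop 1).drop 1).drop 1).drop 1).drop 1).drop 1).drop 1).drop 1).drop 1).drop 1).drop 1).drop 1).drop 1).drop 1).drop 1).drop 2).drop 1).drop 1).drop 1).drop 1).drop 1).drop 1).drop 1).drop 1).drop 1).drop 1).drop 1).drop 1).drop 1).drop 1).drop 1).drop 1).drop 1).drop 1).drop 1).drop 1).drop 1).drop 1).drop 1).drop 1).drop 1).drop 1).drop 1).drop 1).drop 1).drop 1).drop 1).drop 1).drop 1).drop 1).drop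 1).drop 1).drop 1).drop 1).drop 1).drop 1).drop 1).drop 1).drop 1).drop 1).drop 1).drop 1).drop 1).drop 1).drop 1).drop 1).drop 1).drop 1).drop 1).drop 1).drop 1).drop 1).drop 1).drop 1).drop 1).drop 1).drop 1).drop 1).drop 1).drop 1).drop 1).drop 1).drop 1).drop 1).drop 1).drop 1).drop 1).drop 1).drop 1).drop 1).drop 1).drop 1).drop 1).drop 1).drop 1).drop 1).drop 1).drop 1).drop 1).drop 1).drop 1).drop 1).drop 1).drop 1).drop 1).drop 1).drop 1).drop 1).drop 1).drop 1).drop 1).take 1) = true := by decide +kernel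

theorem clT_158 : chkR P L 0 248 ((((((((((((((((((((((((((((((((((((((((((((((((((((((((((((((((((((((((((((((((((((((((((((((((((((((((((((((((((((((((((((((((((((((((((((((((((((((((((((((((dcClaims 64 66 cjT repsT).drop 2).drop 2).drop 2).drop 2).drop 12).drop 1).drop 1).drop 2).drop 1).drop 2).drop 1).drop 1).drop 1).drop 1).drop 2).drop 1).drop 1).drop 1).drop 1).drop 2).drop 2).drop 1).drop 1).drop 1).drop 1).drop 1).drop 1).drop 1).drop 1).drop 1).drop 1).drop 1).drop 1).drop 1).drop 1).drop 1).drop 2).drop 1).drop 1).drop 1).drop 1).drop 1).drop 1).drop 1).drop 1).drop 1).drop 1).drop 1).drop 1).drop 1).drop 1).drop 1).drop 1).drop 1).drop 1).drop 1).drop 1).drop 1).drop 1).drop 1).drop 1).drop 2).drop 1).drop 1).drop 1).drop 1).drop 1).drop 1).drop 1).drop 1).drop 1).drop 1).drop 1).drop 1).drop 1).drop 1).drop 1).drop 1).drop 1).drop 1).drop 1).drop 1).drop 1).drop 1).drop 1).drop 1).drop 1).drop 1).drop 1).drop 1).drop 1).drop 1).drop 1).drop 1).drop 1).drop 1).drop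 1).drop 1).drop 1).drop 1).drop 1).drop 1).drop 1).drop 1).drop 1).drop 1).drop 1).drop 1).drop 1).drop 1).drop 1).drop 1).drop 1).drop 1).drop 1).drop 1).drop 1).drop 1).drop 1).drop 1).drop 1).drop 1).drop 1).drop 1).drop 1).drop 1).drop 1).drop 1).drop 1).drop 1).drop 1).drop 1).drop 1).drop 1).drop 1).drop 1).drop 1).drop 1).drop 1).drop 1).drop 1).drop 1).drop 1).drop 1).drop 1).drop 1).drop 1).drop 1).drop 1).drop 1).drop 1).drop 1).drop 1).drop 1).drop 1).drop 1).drop 1).drop 1).take 1) = true := by decide +kernel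

theorem clT_159 : chkR P L 0 248 (((((((((((((((((((((((((((((((((((((((((((((((((((((((((((((((((((((((((((((((((((((((((((((((((((((((((((((((((((((((((((((((((((((((((((((((((((((((((((((((((dcClaims 64 66 cjT repsT).drop 2).drop 2).drop 2).drop 2).drop 12).drop 1).drop 1).drop 2).drop 1).drop 2).drop 1).drop 1).drop 1).drop 1).drop 2).drop 1).drop 1).drop 1).drop 1).drop 2).drop 2).drop 1).drop 1).drop 1).drop 1).drop 1).drop 1).drop 1).drop 1).drop 1).drop 1).drop 1).drop 1).drop 1).drop 1).drop 1).drop 2).drop 1).drop 1).drop 1).drop 1).drop 1).drop 1).drop 1).drop 1).drop 1).drop 1).drop 1).drop 1).drop 1).drop 1).drop 1).drop 1).drop 1).drop 1).drop 1).drop 1).drop 1).drop 1).drop 1).drop 1).drop 2).drop 1).drop 1).drop 1).drop 1).drop 1).drop 1).drop 1).drop 1).drop 1).drop 1).drop 1).drop 1).drop 1).drop 1).drop 1).drop 1).drop 1).drop 1).drop 1).drop 1).drop 1).drop 1).drop 1).drop 1).drop 1).drop 1).drop 1).drop 1).drop 1).drop 1).drop 1).drop 1).drop 1).drop 1).drop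 1).drop 1).drop 1).drop 1).drop 1).drop 1).drop 1).drop 1).drop 1).drop 1).drop 1).drop 1).drop 1).drop 1).drop 1).drop 1).drop 1).drop 1).drop 1).drop 1).drop 1).drop 1).drop 1).drop 1).drop 1).drop 1).drop 1).drop 1).drop 1).drop 1).drop 1).drop 1).drop 1).drop 1).drop 1).drop 1).drop 1).drop 1).drop 1).drop 1).drop 1).drop 1).drop 1).drop 1).drop 1).drop 1).drop 1).drop 1).drop 1).drop 1).drop 1).drop 1).drop 1).drop 1).drop 1).drop 1).drop 1).drop 1).drop 1).drop 1).drop 1).drop 1).drop 1).take 1) = true := by decide +kernel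

theorem clT_160 : chkR P L 0 248 ((((((((((((((((((((((((((((((((((((((((((((((((((((((((((((((((((((((((((((((((((((((((((((((((((((((((((((((((((((((((((((((((((((((((((((((((((((((((((((((((((dcClaims 64 66 cjT repsT).drop 2).drop 2).drop 2).drop 2).drop 12).drop 1).drop 1).drop 2).drop 1).drop 2).drop 1).drop 1).drop 1).drop 1).drop 2).drop 1).drop 1).drop 1).drop 1).drop 2).drop 2).drop 1).drop 1).drop 1).drop 1).drop 1).drop 1).drop 1).drop 1).drop 1).drop 1).drop 1).drop 1).drop 1).drop 1).drop 1).drop 2).drop 1).drop 1).drop 1).drop 1).drop 1).drop 1).drop 1).drop 1).drop 1).drop 1).drop 1).drop 1).drop 1).drop 1).drop 1).drop 1).drop 1).drop 1).drop 1).drop 1).drop 1).drop 1).drop 1).drop 1).drop 2).drop 1).drop 1).drop 1).drop 1).drop 1).drop 1).drop 1).drop 1).drop 1).drop 1).drop 1).drop 1).drop 1).drop 1).drop 1).drop 1).drop 1).drop 1).drop 1).drop 1).drop 1).drop 1).drop 1).drop 1).drop 1).drop 1).drop 1).drop 1).drop 1).drop 1).drop 1).drop 1).drop 1).drop 1).drop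 1).drop 1).drop 1).drop 1).drop 1).drop 1).drop 1).drop 1).drop 1).drop 1).drop 1).drop 1).drop 1).drop 1).drop 1).drop 1).drop 1).drop 1).drop 1).drop 1).drop 1).drop 1).drop 1).drop 1).drop 1).drop 1).drop 1).drop 1).drop 1).drop 1).drop 1).drop 1).drop 1).drop 1).drop 1).drop 1).drop 1).drop 1).drop 1).drop 1).drop 1).drop 1).drop 1).drop 1).drop 1).drop 1).drop 1).drop 1).drop 1).drop 1).drop 1).drop 1).drop 1).drop 1).drop 1).drop 1).drop 1).drop 1).drop 1).drop 1).drop 1).drop 1).drop 1).drop 1).take 1) = true := by decide +kernel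

theorem clT_161 : chkR P L 0 248 (((((((((((((((((((((((((((((((((((((((((((((((((((((((((((((((((((((((((((((((((((((((((((((((((((((((((((((((((((((((((((((((((((((((((((((((((((((((((((((((((((dcClaims 64 66 cjT repsT).drop 2).drop 2).drop 2).drop 2).drop 12).drop 1).drop 1).drop 2).drop 1).drop 2).drop 1).drop 1).drop 1).drop 1).drop 2).drop 1).drop 1).drop 1).drop 1).drop 2).drop 2).drop 1).drop 1).drop 1).drop 1).drop 1).drop 1).drop 1).drop 1).drop 1).drop 1).drop 1).drop 1).drop 1).drop 1).drop 1).drop 2).drop 1).drop 1).drop 1).drop 1).drop 1).drop 1).drop 1).drop 1).drop 1).drop 1).drop 1).drop 1).drop 1).drop 1).drop 1).drop 1).drop 1).drop 1).drop 1).drop 1).drop 1).drop 1).drop 1).drop 1).drop 2).drop 1).drop 1).drop 1).drop 1).drop 1).drop 1).drop 1).drop 1).drop 1).drop 1).drop 1).drop 1).drop 1).drop 1).drop 1).drop 1).drop 1).drop 1).drop 1).drop 1).drop 1).drop 1).drop 1).drop 1).drop 1).drop 1).drop 1).drop 1).drop 1).drop 1).drop 1).drop 1).drop 1).drop 1).drop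 1).drop 1).drop 1).drop 1).drop 1).drop 1).drop 1).drop 1).drop 1).drop 1).drop 1).drop 1).drop 1).drop 1).drop 1).drop 1).drop 1).drop 1).drop 1).drop 1).drop 1).drop 1).drop 1).drop 1).drop 1).drop 1).drop 1).drop 1).drop 1).drop 1).drop 1).drop 1).drop 1).drop 1).drop 1).drop 1).drop 1).drop 1).drop 1).drop 1).drop 1).drop 1).drop 1).drop 1).drop 1).drop 1).drop 1).drop 1).drop 1).drop 1).drop 1).drop 1).drop 1).drop 1).drop 1).drop 1).drop 1).drop 1).drop 1).drop 1).drop 1).drop 1).drop 1).drop 1).drop 1).take 1) = true := by decide +kernel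

theorem clT_162 : chkR P L 0 248 ((((((((((((((((((((((((((((((((((((((((((((((((((((((((((((((((((((((((((((((((((((((((((((((((((((((((((((((((((((((((((((((((((((((((((((((((((((((((((((((((((((dcClaims 64 66 cjT repsT).drop 2).drop 2).drop 2).drop 2).drop 12).drop 1).drop 1).drop 2).drop 1).drop 2).drop 1).drop 1).drop 1).drop 1).drop 2).drop 1).drop 1).drop 1).drop 1).drop 2).drop 2).drop 1).drop 1).drop 1).drop 1).drop 1).drop 1).drop 1).drop 1).drop 1).drop 1).drop 1).drop 1).drop 1).drop 1).drop 1).drop 2).drop 1).drop 1).drop 1).drop 1).drop 1).drop 1).drop 1).drop 1).drop 1).drop 1).drop 1).drop 1).drop 1).drop 1).drop 1).drop 1).drop 1).drop 1).drop 1).drop 1).drop 1).drop 1).drop 1).drop 1).drop 2).drop 1).drop 1).drop 1).drop 1).drop 1).drop 1).drop 1).drop 1).drop 1).drop 1).drop 1).drop 1).drop 1).drop 1).drop 1).drop 1).drop 1).drop 1).drop 1).drop 1).drop 1).drop 1).drop 1).drop 1).drop 1).drop 1).drop 1).drop 1).drop 1).drop 1).drop 1).drop 1).drop 1).drop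 1).drop 1).drop 1).drop 1).drop 1).drop 1).drop 1).drop 1).drop 1).drop 1).drop 1).drop 1).drop 1).drop 1).drop 1).drop 1).drop 1).drop 1).drop 1).drop 1).drop 1).drop 1).drop 1).drop 1).drop 1).drop 1).drop 1).drop 1).drop 1).drop 1).drop 1).drop 1).drop 1).drop 1).drop 1).drop 1).drop 1).drop 1).drop 1).drop 1).drop 1).drop 1).drop 1).drop 1).drop 1).drop 1).drop 1).drop 1).drop 1).drop 1).drop 1).drop 1).drop 1).drop 1).drop 1).drop 1).drop 1).drop 1).drop 1).drop 1).drop 1).drop 1).drop 1).drop 1).drop 1).drop 1).drop 1).take 1) = true := by decide +kernel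

theorem clT_163 : chkR P L 0 248 (((((((((((((((((((((((((((((((((((((((((((((((((((((((((((((((((((((((((((((((((((((((((((((((((((((((((((((((((((((((((((((((((((((((((((((((((((((((((((((((((((((dcClaims 64 66 cjT repsT).drop 2).drop 2).drop 2).drop 2).drop 12).drop 1).drop 1).drop 2).drop 1).drop 2).drop 1).drop 1).drop 1).drop 1).drop 2).drop 1).drop 1).drop 1).drop 1).drop 2).drop 2).drop 1).drop 1).drop 1).drop 1).drop 1).drop 1).drop 1).drop 1).drop 1).drop 1).drop 1).drop 1).drop 1).drop 1).drop 1).drop 2).drop 1).drop 1).drop 1).drop 1).drop 1).drop 1).drop 1).drop 1).drop 1).drop 1).drop 1).drop 1).drop 1).drop 1).drop 1).drop 1).drop 1).drop 1).drop 1).drop 1).drop 1).drop 1).drop 1).drop 1).drop 2).drop 1).drop 1).drop 1).drop 1).drop 1).drop 1).drop 1).drop 1).drop 1).drop 1).drop 1).drop 1).drop 1).drop 1).drop 1).drop 1).drop 1).drop 1).drop 1).drop 1).drop 1).drop 1).drop 1).drop 1).drop 1).drop 1).drop 1).drop 1).drop 1).drop 1).drop 1).drop 1).drop 1).drop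 1).drop 1).drop 1).drop 1).drop 1).drop 1).drop 1).drop 1).drop 1).drop 1).drop 1).drop 1).drop 1).drop 1).drop 1).drop 1).drop 1).drop 1).drop 1).drop 1).drop 1).drop 1).drop 1).drop 1).drop 1).drop 1).drop 1).drop 1).drop 1).drop 1).drop 1).drop 1).drop 1).drop 1).drop 1).drop 1).drop 1).drop 1).drop 1).drop 1).drop 1).drop 1).drop 1).drop 1).drop 1).drop 1).drop 1).drop 1).drop 1).drop 1).drop 1).drop 1).drop 1).drop 1).drop 1).drop 1).drop 1).drop 1).drop 1).drop 1).drop 1).drop 1).drop 1).drop 1).drop 1).drop 1).drop 1).drop 1).take 1) = true := by decide +kernel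

theorem clT_164 : chkR P L 0 248 ((((((((((((((((((((((((((((((((((((((((((((((((((((((((((((((((((((((((((((((((((((((((((((((((((((((((((((((((((((((((((((((((((((((((((((((((((((((((((((((((((((((dcClaims 64 66 cjT repsT).drop 2).drop 2).drop 2).drop 2).drop 12).drop 1).drop 1).drop 2).drop 1).drop 2).drop 1).drop 1).drop 1).drop 1).drop 2).drop 1).drop 1).drop 1).drop 1).drop 2).drop 2).drop 1).drop 1).drop 1).drop 1).drop 1).drop 1).drop 1).drop 1).drop 1).drop 1).drop 1).drop 1).drop 1).drop 1).drop 1).drop 2).drop 1).drop 1).drop 1).drop 1).drop 1).drop 1).drop 1).drop 1).drop 1).drop 1).drop 1).drop 1).drop 1).drop 1).drop 1).drop 1).drop 1).drop 1).drop 1).drop 1).drop 1).drop 1).drop 1).drop 1).drop 2).drop 1).drop 1).drop 1).drop 1).drop 1).drop 1).drop 1).drop 1).drop 1).drop 1).drop 1).drop 1).drop 1).drop 1).drop 1).drop 1).drop 1).drop 1).drop 1).drop 1).drop 1).drop 1).drop 1).drop 1).drop 1).drop 1).drop 1).drop 1).drop 1).drop 1).drop 1).drop 1).drop 1).drop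 1).drop 1).drop 1).drop 1).drop 1).drop 1).drop 1).drop 1).drop 1).drop 1).drop 1).drop 1).drop 1).drop 1).drop 1).drop 1).drop 1).drop 1).drop 1).drop 1).drop 1).drop 1).drop 1).drop 1).drop 1).drop 1).drop 1).drop 1).drop 1).drop 1).drop 1).drop 1).drop 1).drop 1).drop 1).drop 1).drop 1).drop 1).drop 1).drop 1).drop 1).drop 1).drop 1).drop 1).drop 1).drop 1).drop 1).drop 1).drop 1).drop 1).drop 1).drop 1).drop 1).drop 1).drop 1).drop 1).drop 1).drop 1).drop 1).drop 1).drop 1).drop 1).drop 1).drop 1).drop 1).drop 1).drop 1).drop 1).drop 1).take 1) = true := by decide +kernel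

theorem clT_165 : chkR P L 0 248 (((((((((((((((((((((((((((((((((((((((((((((((((((((((((((((((((((((((((((((((((((((((((((((((((((((((((((((((((((((((((((((((((((((((((((((((((((((((((((((((((((((((dcClaims 64 66 cjT repsT).drop 2).drop 2).drop 2).drop 2).drop 12).drop 1).drop 1).drop 2).drop 1).drop 2).drop 1).drop 1).drop 1).drop 1).drop 2).drop 1).drop 1).drop 1).drop 1).drop 2).drop 2).drop 1).drop 1).drop 1).drop 1).drop 1).drop 1).drop 1).drop 1).drop 1).drop 1).drop 1).drop 1).drop 1).drop 1).drop 1).drop 2).drop 1).drop 1).drop 1).drop 1).drop 1).drop 1).drop 1).drop 1).drop 1).drop 1).drop 1).drop 1).drop 1).drop 1).drop 1).drop 1).drop 1).drop 1).drop 1).drop 1).drop 1).drop 1).drop 1).drop 1).drop 2).drop 1).drop 1).drop 1).drop 1).drop 1).drop 1).drop 1).drop 1).drop 1).drop 1).drop 1).drop 1).drop 1).drop 1).drop 1).drop 1).drop 1).drop 1).drop 1).drop 1).drop 1).drop 1).drop 1).drop 1).drop 1).drop 1).drop 1).drop 1).drop 1).drop 1).drop 1).drop 1).drop 1).drop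 1).drop 1).drop 1).drop 1).drop 1).drop 1).drop 1).drop 1).drop 1).drop 1).drop 1).drop 1).drop 1).drop 1).drop 1).drop 1).drop 1).drop 1).drop 1).drop 1).drop 1).drop 1).drop 1).drop 1).drop 1).drop 1).drop 1).drop 1).drop 1).drop 1).drop 1).drop 1).drop 1).drop 1).drop 1).drop 1).drop 1).drop 1).drop 1).drop 1).drop 1).drop 1).drop 1).drop 1).drop 1).drop 1).drop 1).drop 1).drop 1).drop 1).drop 1).drop 1).drop 1).drop 1).drop 1).drop 1).drop 1).drop 1).drop 1).drop 1).drop 1).drop 1).drop 1).drop 1).drop 1).drop 1).drop 1).drop 1).drop 1).drop 1).take 1) = true := by decide +kernel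

theorem clT_166 : chkR P L 0 248 ((((((((((((((((((((((((((((((((((((((((((((((((((((((((((((((((((((((((((((((((((((((((((((((((((((((((((((((((((((((((((((((((((((((((((((((((((((((((((((((((((((((((dcClaims 64 66 cjT repsT).drop 2).drop 2).drop 2).drop 2).drop 12).drop 1).drop 1).drop 2).drop 1).drop 2).drop 1).drop 1).drop 1).drop 1).drop 2).drop 1).drop 1).drop 1).drop 1).drop 2).drop 2).drop 1).drop 1).drop 1).drop 1).drop 1).drop 1).drop 1).drop 1).drop 1).drop 1).drop 1).drop 1).drop 1).drop 1).drop 1).drop 2).drop 1).drop 1).drop 1).drop 1).drop 1).drop 1).drop 1).drop 1).drop 1).drop 1).drop 1).drop 1).drop 1).drop 1).drop 1).drop 1).drop 1).drop 1).drop 1).drop 1).drop 1).drop 1).drop 1).drop 1).drop 2).drop 1).drop 1).drop 1).drop 1).drop 1).drop 1).drop 1).drop 1).drop 1).drop 1).drop 1).drop 1).drop 1).drop 1).drop 1).drop 1).drop 1).drop 1).drop 1).drop 1).drop 1).drop 1).drop 1).drop 1).drop 1).drop 1).drop 1).drop 1).drop 1).drop 1).drop 1).drop 1).drop 1).drop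 1).drop 1).drop 1).drop 1).drop 1).drop 1).drop 1).drop 1).drop 1).drop 1).drop 1).drop 1).drop 1).drop 1).drop 1).drop 1).drop 1).drop 1).drop 1).drop 1).drop 1).drop 1).drop 1).drop 1).drop 1).drop 1).drop 1).drop 1).drop 1).drop 1).drop 1).drop 1).drop 1).drop 1).drop 1).drop 1).drop 1).drop 1).drop 1).drop 1).drop 1).drop 1).drop 1).drop 1).drop 1).drop 1).drop 1).drop 1).drop 1).drop 1).drop 1).drop 1).drop 1).drop 1).drop 1).drop 1).drop 1).drop 1).drop 1).drop 1).drop 1).drop 1).drop 1).drop 1).drop 1).drop 1).drop 1).drop 1).drop 1).drop 1).drop 1).take 1) = true := by decide +kernel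

theorem clT_167 : chkR P L 0 248 (((((((((((((((((((((((((((((((((((((((((((((((((((((((((((((((((((((((((((((((((((((((((((((((((((((((((((((((((((((((((((((((((((((((((((((((((((((((((((((((((((((((((dcClaims 64 66 cjT repsT).drop 2).drop 2).drop 2).drop 2).drop 12).drop 1).drop 1).drop 2).drop 1).drop 2).drop 1).drop 1).drop 1).drop 1).drop 2).drop 1).drop 1).drop 1).drop 1).drop 2).drop 2).drop 1).drop 1).drop 1).drop 1).drop 1).drop 1).drop 1).drop 1).drop 1).drop 1).drop 1).drop 1).drop 1).drop 1).drop 1).drop 2).drop 1).drop 1).drop 1).drop 1).drop 1).drop 1).drop 1).drop 1).drop 1).drop 1).drop 1).drop 1).drop 1).drop 1).drop 1).drop 1).drop 1).drop 1).drop 1).drop 1).drop 1).drop 1).drop 1).drop 1).drop 2).drop 1).drop 1).drop 1).drop 1).drop 1).drop 1).drop 1).drop 1).drop 1).drop 1).drop 1).drop 1).drop 1).drop 1).drop 1).drop 1).drop 1).drop 1).drop 1).drop 1).drop 1).drop 1).drop 1).drop 1).drop 1).drop 1).drop 1).drop 1).drop 1).drop 1).drop 1).drop 1).drop 1).drop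 1).drop 1).drop 1).drop 1).drop 1).drop 1).drop 1).drop 1).drop 1).drop 1).drop 1).drop 1).drop 1).drop 1).drop 1).drop 1).drop 1).drop 1).drop 1).drop 1).drop 1).drop 1).drop 1).drop 1).drop 1).drop 1).drop 1).drop 1).drop 1).drop 1).drop 1).drop 1).drop 1).drop 1).drop 1).drop 1).drop 1).drop 1).drop 1).drop 1).drop 1).drop 1).drop 1).drop 1).drop 1).drop 1).drop 1).drop 1).drop 1).drop 1).drop 1).drop 1).drop 1).drop 1).drop 1).drop 1).drop 1).drop 1).drop 1).drop 1).drop 1).drop 1).drop 1).drop 1).drop 1).drop 1).drop 1).drop 1).drop 1).drop 1).drop 1).drop 1).take 1) = true := by decide +kernel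

theorem clT_168 : chkR P L 0 248 ((((((((((((((((((((((((((((((((((((((((((((((((((((((((((((((((((((((((((((((((((((((((((((((((((((((((((((((((((((((((((((((((((((((((((((((((((((((((((((((((((((((((((dcClaims 64 66 cjT repsT).drop 2).drop 2).drop 2).drop 2).drop 12).drop 1).drop 1).drop 2).drop 1).drop 2).drop 1).drop 1).drop 1).drop 1).drop 2).drop 1).drop 1).drop 1).drop 1).drop 2).drop 2).drop 1).drop 1).drop 1).drop 1).drop 1).drop 1).drop 1).drop 1).drop 1).drop 1).drop 1).drop 1).drop 1).drop 1).drop 1).drop 2).drop 1).drop 1).drop 1).drop 1).drop 1).drop 1).drop 1).drop 1).drop 1).drop 1).drop 1).drop 1).drop 1).drop 1).drop 1).drop 1).drop 1).drop 1).drop 1).drop 1).drop 1).drop 1).drop 1).drop 1).drop 2).drop 1).drop 1).drop 1).drop 1).drop 1).drop 1).drop 1).drop 1).drop 1).drop 1).drop 1).drop 1).drop 1).drop 1).drop 1).drop 1).drop 1).drop 1).drop 1).drop 1).drop 1).drop 1).drop 1).drop 1).drop 1).drop 1).drop 1).drop 1).drop 1).drop 1).drop 1).drop 1).drop 1).drop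 1).drop 1).drop 1).drop 1).drop 1).drop 1).drop 1).drop 1).drop 1).drop 1).drop 1).drop 1).drop 1).drop 1).drop 1).drop 1).drop 1).drop 1).drop 1).drop 1).drop 1).drop 1).drop 1).drop 1).drop 1).drop 1).drop 1).drop 1).drop 1).drop 1).drop 1).drop 1).drop 1).drop 1).drop 1).drop 1).drop 1).drop 1).drop 1).drop 1).drop 1).drop 1).drop 1).drop 1).drop 1).drop 1).drop 1).drop 1).drop 1).drop 1).drop 1).drop 1).drop 1).drop 1).drop 1).drop 1).drop 1).drop 1).drop 1).drop 1).drop 1).drop 1).drop 1).drop 1).drop 1).drop 1).drop 1).drop 1).drop 1).drop 1).drop 1).drop 1).drop 1).take 1) = true := by decide +kernel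

theorem clT_169 : chkR P L 0 248 (((((((((((((((((((((((((((((((((((((((((((((((((((((((((((((((((((((((((((((((((((((((((((((((((((((((((((((((((((((((((((((((((((((((((((((((((((((((((((((((((((((((((((dcClaims 64 66 cjT repsT).drop 2).drop 2).drop 2).drop 2).drop 12).drop 1).drop 1).drop 2).drop 1).drop 2).drop 1).drop 1).drop 1).drop 1).drop 2).drop 1).drop 1).drop 1).drop 1).drop 2).drop 2).drop 1).drop 1).drop 1).drop 1).drop 1).drop 1).drop 1).drop 1).drop 1).drop 1).drop 1).drop 1).drop 1).drop 1).drop 1).drop 2).drop 1).drop 1).drop 1).drop 1).drop 1).drop 1).drop 1).drop 1).drop 1).drop 1).drop 1).drop 1).drop 1).drop 1).drop 1).drop 1).drop 1).drop 1).drop 1).drop 1).drop 1).drop 1).drop 1).drop 1).drop 2).drop 1).drop 1).drop 1).drop 1).drop 1).drop 1).drop 1).drop 1).drop 1).drop 1).drop 1).drop 1).drop 1).drop 1).drop 1).drop 1).drop 1).drop 1).drop 1).drop 1).drop 1).drop 1).drop 1).drop 1).drop 1).drop 1).drop 1).drop 1).drop 1).drop 1).drop 1).drop 1).drop 1).drop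 1).drop 1).drop 1).drop 1).drop 1).drop 1).drop 1).drop 1).drop 1).drop 1).drop 1).drop 1).drop 1).drop 1).drop 1).drop 1).drop 1).drop 1).drop 1).drop 1).drop 1).drop 1).drop 1).drop 1).drop 1).drop 1).drop 1).drop 1).drop 1).drop 1).drop 1).drop 1).drop 1).drop 1).drop 1).drop 1).drop 1).drop 1).drop 1).drop 1).drop 1).drop 1).drop 1).drop 1).drop 1).drop 1).drop 1).drop 1).drop 1).drop 1).drop 1).drop 1).drop 1).drop 1).drop 1).drop 1).drop 1).drop 1).drop 1).drop 1).drop 1).drop 1).drop 1).drop 1).drop 1).drop 1).drop 1).drop 1).drop 1).drop 1).drop 1).drop 1).drop 1).drop 1).take 1) = true := by decide +kernel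

theorem clT_170 : chkR P L 0 248 ((((((((((((((((((((((((((((((((((((((((((((((((((((((((((((((((((((((((((((((((((((((((((((((((((((((((((((((((((((((((((((((((((((((((((((((((((((((((((((((((((((((((((((dcClaims 64 66 cjT repsT).drop 2).drop 2).drop 2).drop 2).drop 12).drop 1).drop 1).drop 2).drop 1).drop 2).drop 1).drop 1).drop 1).drop 1).drop 2).drop 1).drop 1).drop 1).drop 1).drop 2).drop 2).drop 1).drop 1).drop 1).drop 1).drop 1).drop 1).drop 1).drop 1).drop 1).drop 1).drop 1).drop 1).drop 1).drop 1).drop 1).drop 2).drop 1).drop 1).drop 1).drop 1).drop 1).drop 1).drop 1).drop 1).drop 1).drop 1).drop 1).drop 1).drop 1).drop 1).drop 1).drop 1).drop 1).drop 1).drop 1).drop 1).drop 1).drop 1).drop 1).drop 1).drop 2).drop 1).drop 1).drop 1).drop 1).drop 1).drop 1).drop 1).drop 1).drop 1).drop 1).drop 1).drop 1).drop 1).drop 1).drop 1).drop 1).drop 1).drop 1).drop 1).drop 1).drop 1).drop 1).drop 1).drop 1).drop 1).drop 1).drop 1).drop 1).drop 1).drop 1).drop 1).drop 1).drop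 1).drop 1).drop 1).drop 1).drop 1).drop 1).drop 1).drop 1).drop 1).drop 1).drop 1).drop 1).drop 1).drop 1).drop 1).drop 1).drop 1).drop 1).drop 1).drop 1).drop 1).drop 1).drop 1).drop 1).drop 1).drop 1).drop 1).drop 1).drop 1).drop 1).drop 1).drop 1).drop 1).drop 1).drop 1).drop 1).drop 1).drop 1).drop 1).drop 1).drop 1).drop 1).drop 1).drop 1).drop 1).drop 1).drop 1).drop 1).drop 1).drop 1).drop 1).drop 1).drop 1).drop 1).drop 1).drop 1).drop 1).drop 1).drop 1).drop 1).drop 1).drop 1).drop 1).drop 1).drop 1).drop 1).drop 1).drop 1).drop 1).drop 1).drop 1).drop 1).drop 1).drop 1).drop 1).drop 1).take 1) = true := by decide +kernel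

theorem clT_171 : chkR P L 0 248 (((((((((((((((((((((((((((((((((((((((((((((((((((((((((((((((((((((((((((((((((((((((((((((((((((((((((((((((((((((((((((((((((((((((((((((((((((((((((((((((((((((((((((((dcClaims 64 66 cjT repsT).drop 2).drop 2).drop 2).drop 2).drop 12).drop 1).drop 1).drop 2).drop 1).drop 2).drop 1).drop 1).drop 1).drop 1).drop 2).drop 1).drop 1).drop 1).drop 1).drop 2).drop 2).drop 1).drop 1).drop 1).drop 1).drop 1).drop 1).drop 1).drop 1).drop 1).drop 1).drop 1).drop 1).drop 1).drop 1).drop 1).drop 2).drop 1).drop 1).drop 1).drop 1).drop 1).drop 1).drop 1).drop 1).drop 1).drop 1).drop 1).drop 1).drop 1).drop 1).drop 1).drop 1).drop 1).drop 1).drop 1).drop 1).drop 1).drop 1).drop 1).drop 1).drop 2).drop 1).drop 1).drop 1).drop 1).drop 1).drop 1).drop 1).drop 1).drop 1).drop 1).drop 1).drop 1).drop 1).drop 1).drop 1).drop 1).drop 1).drop 1).drop 1).drop 1).drop 1).drop 1).drop 1).drop 1).drop 1).drop 1).drop 1).drop 1).drop 1).drop 1).drop 1).drop 1).drop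 1).drop 1).drop 1).drop 1).drop 1).drop 1).drop 1).drop 1).drop 1).drop 1).drop 1).drop 1).drop 1).drop 1).drop 1).drop 1).drop 1).drop 1).drop 1).drop 1).drop 1).drop 1).drop 1).drop 1).drop 1).drop 1).drop 1).drop 1).drop 1).drop 1).drop 1).drop 1).drop 1).drop 1).drop 1).drop 1).drop 1).drop 1).drop 1).drop 1).drop 1).drop 1).drop 1).drop 1).drop 1).drop 1).drop 1).drop 1).drop 1).drop 1).drop 1).drop 1).drop 1).drop 1).drop 1).drop 1).drop 1).drop 1).drop 1).drop 1).drop 1).drop 1).drop 1).drop 1).drop 1).drop 1).drop 1).drop 1).drop 1).drop 1).drop 1).drop 1).drop 1).drop 1).drop 1).drop 1).drop 1).take 1) = true := by decide +kernel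

theorem clT_172 : chkR P L 0 248 ((((((((((((((((((((((((((((((((((((((((((((((((((((((((((((((((((((((((((((((((((((((((((((((((((((((((((((((((((((((((((((((((((((((((((((((((((((((((((((((((((((((((((((((dcClaims 64 66 cjT repsT).drop 2).drop 2).drop 2).drop 2).drop 12).drop 1).drop 1).drop 2).drop 1).drop 2).drop 1).drop 1).drop 1).drop 1).drop 2).drop 1).drop 1).drop 1).drop 1).drop 2).drop 2).drop 1).drop 1).drop 1).drop 1).drop 1).drop 1).drop 1).drop 1).drop 1).drop 1).drop 1).drop 1).drop 1).drop 1).drop 1).drop 2).drop 1).drop 1).drop 1).drop 1).drop 1).drop 1).drop 1).drop 1).drop 1).drop 1).drop 1).drop 1).drop 1).drop 1).drop 1).drop 1).drop 1).drop 1).drop 1).drop 1).drop 1).drop 1).drop 1).drop 1).drop 2).drop 1).drop 1).drop 1).drop 1).drop 1).drop 1).drop 1).drop 1).drop 1).drop 1).drop 1).drop 1).drop 1).drop 1).drop 1).drop 1).drop 1).drop 1).drop 1).drop 1).drop 1).drop 1).drop 1).drop 1).drop 1).drop 1).drop 1).drop 1).drop 1).drop 1).drop 1).drop 1).drop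 1).drop 1).drop 1).drop 1).drop 1).drop 1).drop 1).drop 1).drop 1).drop 1).drop 1).drop 1).drop 1).drop 1).drop 1).drop 1).drop 1).drop 1).drop 1).drop 1).drop 1).drop 1).drop 1).drop 1).drop 1).drop 1).drop 1).drop 1).drop 1).drop 1).drop 1).drop 1).drop 1).drop 1).drop 1).drop 1).drop 1).drop 1).drop 1).drop 1).drop 1).drop 1).drop 1).drop 1).drop 1).drop 1).drop 1).drop 1).drop 1).drop 1).drop 1).drop 1).drop 1).drop 1).drop 1).drop 1).drop 1).drop 1).drop 1).drop 1).drop 1).drop 1).drop 1).drop 1).drop 1).drop 1).drop 1).drop 1).drop 1).drop 1).drop 1).drop 1).drop 1).drop 1).drop 1).drop 1).drop 1).drop 1).take 1) = true := by decide +kernel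

theorem clT_173 : chkR P L 0 248 (((((((((((((((((((((((((((((((((((((((((((((((((((((((((((((((((((((((((((((((((((((((((((((((((((((((((((((((((((((((((((((((((((((((((((((((((((((((((((((((((((((((((((((((dcClaims 64 66 cjT repsT).drop 2).drop 2).drop 2).drop 2).drop 12).drop 1).drop 1).drop 2).drop 1).drop 2).drop 1).drop 1).drop 1).drop 1).drop 2).drop 1).drop 1).drop 1).drop 1).drop 2).drop 2).drop 1).drop 1).drop 1).drop 1).drop 1).drop 1).drop 1).drop 1).drop 1).drop 1).drop 1).drop 1).drop 1).drop 1).drop 1).drop 2).drop 1).drop 1).drop 1).drop 1).drop 1).drop 1).drop 1).drop 1).drop 1).drop 1).drop 1).drop 1).drop 1).drop 1).drop 1).drop 1).drop 1).drop 1).drop 1).drop 1).drop 1).drop 1).drop 1).drop 1).drop 2).drop 1).drop 1).drop 1).drop 1).drop 1).drop 1).drop 1).drop 1).drop 1).drop 1).drop 1).drop 1).drop 1).drop 1).drop 1).drop 1).drop 1).drop 1).drop 1).drop 1).drop 1).drop 1).drop 1).drop 1).drop 1).drop 1).drop 1).drop 1).drop 1).drop 1).drop 1).drop 1).drop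 1).drop 1).drop 1).drop 1).drop 1).drop 1).drop 1).drop 1).drop 1).drop 1).drop 1).drop 1).drop 1).drop 1).drop 1).drop 1).drop 1).drop 1).drop 1).drop 1).drop 1).drop 1).drop 1).drop 1).drop 1).drop 1).drop 1).drop 1).drop 1).drop 1).drop 1).drop 1).drop 1).drop 1).drop 1).drop 1).drop 1).drop 1).drop 1).drop 1).drop 1).drop 1).drop 1).drop 1).drop 1).drop 1).drop 1).drop 1).drop 1).drop 1).drop 1).drop 1).drop 1).drop 1).drop 1).drop 1).drop 1).drop 1).drop 1).drop 1).drop 1).drop 1).drop 1).drop 1).drop 1).drop 1).drop 1).drop 1).drop 1).drop 1).drop 1).drop 1).drop 1).drop 1).drop 1).drop 1).drop 1).drop 1).drop 1).take 1) = true := by decide +kernel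

theorem clT_174 : chkR P L 0 248 ((((((((((((((((((((((((((((((((((((((((((((((((((((((((((((((((((((((((((((((((((((((((((((((((((((((((((((((((((((((((((((((((((((((((((((((((((((((((((((((((((((((((((((((((dcClaims 64 66 cjT repsT).drop 2).drop 2).drop 2).drop 2).drop 12).drop 1).drop 1).drop 2).drop 1).drop 2).drop 1).drop 1).drop 1).drop 1).drop 2).drop 1).drop 1).drop 1).drop 1).drop 2).drop 2).drop 1).drop 1).drop 1).drop 1).drop 1).drop 1).drop 1).drop 1).drop 1).drop 1).drop 1).drop 1).drop 1).drop 1).drop 1).drop 2).drop 1).drop 1).drop 1).drop 1).drop 1).drop 1).drop 1).drop 1).drop 1).drop 1).drop 1).drop 1).drop 1).drop 1).drop 1).drop 1).drop 1).drop 1).drop 1).drop 1).drop 1).drop 1).drop 1).drop 1).drop 2).drop 1).drop 1).drop 1).drop 1).drop 1).drop 1).drop 1).drop 1).drop 1).drop 1).drop 1).drop 1).drop 1).drop 1).drop 1).drop 1).drop 1).drop 1).drop 1).drop 1).drop 1).drop 1).drop 1).drop 1).drop 1).drop 1).drop 1).drop 1).drop 1).drop 1).drop 1).drop 1).drop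 1).drop 1).drop 1).drop 1).drop 1).drop 1).drop 1).drop 1).drop 1).drop 1).drop 1).drop 1).drop 1).drop 1).drop 1).drop 1).drop 1).drop 1).drop 1).drop 1).drop 1).drop 1).drop 1).drop 1).drop 1).drop 1).drop 1).drop 1).drop 1).drop 1).drop 1).drop 1).drop 1).drop 1).drop 1).drop 1).drop 1).drop 1).drop 1).drop 1).drop 1).drop 1).drop 1).drop 1).drop 1).drop 1).drop 1).drop 1).drop 1).drop 1).drop 1).drop 1).drop 1).drop 1).drop 1).drop 1).drop 1).drop 1).drop 1).drop 1).drop 1).drop 1).drop 1).drop 1).drop 1).drop 1).drop 1).drop 1).drop 1).drop 1).drop 1).drop 1).drop 1).drop 1).drop 1).drop 1).drop 1).drop 1).drop 1).drop 1).take 1) = true := by decide +kernel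

theorem clT_175 : chkR P L 0 248 (((((((((((((((((((((((((((((((((((((((((((((((((((((((((((((((((((((((((((((((((((((((((((((((((((((((((((((((((((((((((((((((((((((((((((((((((((((((((((((((((((((((((((((((((dcClaims 64 66 cjT repsT).drop 2).drop 2).drop 2).drop 2).drop 12).drop 1).drop 1).drop 2).drop 1).drop 2).drop 1).drop 1).drop 1).drop 1).drop 2).drop 1).drop 1).drop 1).drop 1).drop 2).drop 2).drop 1).drop 1).drop 1).drop 1).drop 1).drop 1).drop 1).drop 1).drop 1).drop 1).drop 1).drop 1).drop 1).drop 1).drop 1).drop 2).drop 1).drop 1).drop 1).drop 1).drop 1).drop 1).drop 1).drop 1).drop 1).drop 1).drop 1).drop 1).drop 1).drop 1).drop 1).drop 1).drop 1).drop 1).drop 1).drop 1).drop 1).drop 1).drop 1).drop 1).drop 2).drop 1).drop 1).drop 1).drop 1).drop 1).drop 1).drop 1).drop 1).drop 1).drop 1).drop 1).drop 1).drop 1).drop 1).drop 1).drop 1).drop 1).drop 1).drop 1).drop 1).drop 1).drop 1).drop 1).drop 1).drop 1).drop 1).drop 1).drop 1).drop 1).drop 1).drop 1).drop 1).drop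 1).drop 1).drop 1).drop 1).drop 1).drop 1).drop 1).drop 1).drop 1).drop 1).drop 1).drop 1).drop 1).drop 1).drop 1).drop 1).drop 1).drop 1).drop 1).drop 1).drop 1).drop 1).drop 1).drop 1).drop 1).drop 1).drop 1).drop 1).drop 1).drop 1).drop 1).drop 1).drop 1).drop 1).drop 1).drop 1).drop 1).drop 1).drop 1).drop 1).drop 1).drop 1).drop 1).drop 1).drop 1).drop 1).drop 1).drop 1).drop 1).drop 1).drop 1).drop 1).drop 1).drop 1).drop 1).drop 1).drop 1).drop 1).drop 1).drop 1).drop 1).drop 1).drop 1).drop 1).drop 1).drop 1).drop 1).drop 1).drop 1).drop 1).drop 1).drop 1).drop 1).drop 1).drop 1).drop 1).drop 1).drop 1).drop 1).drop 1).drop 1).take 1) = true := by decide +kernel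

end Cfsg.Agent.Spor.Th
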