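import Cfsg.Agent.Lib.Spor.Th.Data
import Cfsg.Agent.Lib.Spor.ThA.Defs
import Cfsg.Agent.Lib.Spor.Th.Top

set_option autoImplicit false
set_option maxRecDepth 100000
set_option Elab.async false
set_option exponentiation.threshold 100000

namespace Cfsg.Agent.Spor.Th
open Cfsg.Agent.PG Cfsg.Agent.Spor Cfsg.Agent.Spor.ThA

theorem gn_13 : chkR P L 0 248 (((((((((((((((genClaims gn_g).drop 5).drop 4).drop 1).drop 2).drop 1).drop 1).drop 1).drop 1).drop 1).drop 1).drop 1).drop 1).drop 1).take 1) = true := by decide +kernel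

theorem gn_14 : chkR P L 0 248 ((((((((((((((((genClaims gn_g).drop 5).drop 4).drop 1).drop 2).drop 1).drop 1).drop 1).drop 1).drop 1).drop 1).drop 1).drop 1).drop 1).drop 1).take 1) = true := by decide +kernel

theorem gn_15 : chkR P L 0 248 (((((((((((((((((genClaims gn_g).drop 5).drop 4).drop 1).drop 2).drop 1).drop 1).drop 1).drop 1).drop 1).drop 1).drop 1).drop 1).drop 1).drop 1).drop 1).take 2) = true := by decide +kernel

theorem gn_16 : chkR P L 0 248 ((((((((((((((((((genClaims gn_g).drop 5).drop 4).drop 1).drop 2).drop 1).drop 1).drop 1).drop 1).drop 1).drop 1).drop 1).drop 1).drop 1).drop 1).drop 1).drop 2).take 2) = true := by decide +kernel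

theorem gn_17 : chkR P L 0 248 (((((((((((((((((((genClaims gn_g).drop 5).drop 4).drop 1).drop 2).drop 1).drop 1).drop 1).drop 1).drop 1).drop 1).drop 1).drop 1).drop 1).drop 1).drop 1).drop 2).drop 2).take 2) = true := by decide +kernel

theorem gn_18 : chkR P L 0 248 ((((((((((((((((((((genClaims gn_g).drop 5).drop 4).drop 1).drop 2).drop 1).drop 1).drop 1).drop 1).drop 1).drop 1).drop 1).drop 1).drop 1).drop 1).drop 1).drop 2).drop 2).drop 2).take 2) = true := by decide +kernel

theorem gn_19 : chkR P L 0 248 (((((((((((((((((((((genClaims gn_g).drop 5).drop 4).drop 1).drop 2).drop 1).drop 1).drop 1).drop 1).drop 1).drop 1).drop 1).drop 1).drop 1).drop 1).drop 1).drop 2).drop 2).drop 2).drop 2).take 2) = true := by decide +kernel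

theorem gn_20 : chkR P L 0 248 ((((((((((((((((((((((genClaims gn_g).drop 5).drop 4).drop 1).drop 2).drop 1).drop 1).drop 1).drop 1).drop 1).drop 1).drop 1).drop 1).drop 1).drop 1).drop 1).drop 2).drop 2).drop 2).drop 2).drop 2).take 2) = true := by decide +kernel

theorem gn_21 : chkR P L 0 248 (((((((((((((((((((((((genClaims gn_g).drop 5).drop 4).drop 1).drop 2).drop 1).drop 1).drop 1).drop 1).drop 1).drop 1).drop 1).drop 1).drop 1).drop 1).drop 1).drop 2).drop 2).drop 2).drop 2).drop 2).drop 2).take 3) = true := by decide +kernel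

theorem gn_22 : chkR P L 0 248 ((((((((((((((((((((((((genClaims gn_g).drop 5).drop 4).drop 1).drop 2).drop 1).drop 1).drop 1).drop 1).drop 1).drop 1).drop 1).drop 1).drop 1).drop 1).drop 1).drop 2).drop 2).drop 2).drop 2).drop 2).drop 2).drop 3).take 2) = true := by decide +kernel

theorem gn_23 : chkR P L 0 248 (((((((((((((((((((((((((genClaims gn_g).drop 5).drop 4).drop 1).drop 2).drop 1).drop 1).drop 1).drop 1).drop 1).drop 1).drop 1).drop 1).drop 1).drop 1).drop 1).drop 2).drop 2).drop 2).drop 2).drop 2).drop 2).drop 3).drop 2).take 1) = true := by decide +kernel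

theorem gn_24 : chkR P L 0 248 ((((((((((((((((((((((((((genClaims gn_g).drop 5).drop 4).drop 1).drop 2).drop 1).drop 1).drop 1).drop 1).drop 1).drop 1).drop 1).drop 1).drop 1).drop 1).drop 1).drop 2).drop 2).drop 2).drop 2).drop 2).drop 2).drop 3).drop 2).drop 1).take 1) = true := by decide +kernel

theorem gn_25 : chkR P L 0 248 (((((((((((((((((((((((((((genClaims gn_g).drop 5).drop 4).drop 1).drop 2).drop 1).drop 1).drop 1).drop 1).drop 1).drop 1).drop 1).drop 1).drop 1).drop 1).drop 1).drop 2).drop 2).drop 2).drop 2).drop 2).drop 2).drop 3).drop 2).drop 1).drop 1).take 1) = true := by decide +kernel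

theorem gn_26 : chkR P L 0 248 ((((((((((((((((((((((((((((genClaims gn_g).drop 5).drop 4).drop 1).drop 2).drop 1).drop 1).drop 1).drop 1).drop 1).drop 1).drop 1).drop 1).drop 1).drop 1).drop 1).drop 2).drop 2).drop 2).drop 2).drop 2).drop 2).drop 3).drop 2).drop 1).drop 1).drop 1).take 1) = true := by decide +kernel

theorem gn_27 : chkR P L 0 248 (((((((((((((((((((((((((((((genClaims gn_g).drop 5).drop 4).drop 1).drop 2).drop 1).drop 1).drop 1).drop 1).drop 1).drop 1).drop 1).drop 1).drop 1).drop 1).drop 1).drop 2).drop 2).drop 2).drop 2).drop 2).drop 2).drop 3).drop 2).drop 1).drop 1).drop 1).drop 1).take 2) = true := by decide +kernel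

theorem gn_28 : chkR P L 0 248 ((((((((((((((((((((((((((((((genClaims gn_g).drop 5).drop 4).drop 1).drop 2).drop 1).drop 1).drop 1).drop 1).drop 1).drop 1).drop 1).drop 1).drop 1).drop 1).drop 1).drop 2).drop 2).drop 2).drop 2).drop 2).drop 2).drop 3).drop 2).drop 1).drop 1).drop 1).drop 1).drop 2).take 2) = true := by decide +kernel

theorem gn_29 : chkR P L 0 248 (((((((((((((((((((((((((((((((genClaims gn_g).drop 5).drop 4).drop 1).drop 2).drop 1).drop 1).drop 1).drop 1).drop 1).drop 1).drop 1).drop 1).drop 1).drop 1).drop 1).drop 2).drop 2).drop 2).drop 2).drop 2).drop 2).drop 3).drop 2).drop 1).drop 1).drop 1).drop 1).drop 2).drop 2).take 2) = true := by decide +kernel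

theorem gn_30 : chkR P L 0 248 (((((((((((((((((((((((((((((((genClaims gn_g).drop 5).drop 4).drop 1).drop 2).drop 1).drop 1).drop 1).drop 1).drop 1).drop 1).drop 1).drop 1).drop 1).drop 1).drop 1).drop 2).drop 2).drop 2).drop 2).drop 2).drop 2).drop 3).drop 2).drop 1).drop 1).drop 1).drop 1).drop 2).drop 2).drop 2) = true := by decide +kernel

theorem nzl_0 : chkR P L 0 248 ((nzClaims 50 40 nzl_r).take 3) = true := by decide +kernel

theorem nzl_1 : chkR P L 0 248 (((nzClaims 50 40 nzl_r).drop 3).take 4) = true := by decide +kernel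

theorem nzl_2 : chkR P L 0 248 (((nzClaims 50 40 nzl_r).drop 3).drop 4) = true := by decide +kernel

theorem gk_0 : chkR P L 0 248 ((genClaims gk_g).take 1) = true := by decide +kernel

theorem gk_1 : chkR P L 0 248 (((genClaims gk_g).drop 1).take 1) = true := by decide +kernel

theorem gk_2 : chkR P L 0 248 ((((genClaims gk_g).drop 1).drop 1).take 1) = true := by decide +kernel

theorem gk_3 : chkR P L 0 248 (((((genClaims gk_g).drop 1).drop 1).drop 1).take 1) = true := by decide +kernel

theorem gk_4 : chkR P L 0 248 (((((genClaims gk_g).drop 1).drop 1).drop 1).drop 1) = true := by decide +kernel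

theorem pc3p_0 : chkR P L 0 248 ((pcPos 3 14 pc3).take 7) = true := by decide +kernel

theorem pc3p_1 : chkR P L 0 248 (((pcPos 3 14 pc3).drop 7).take 6) = true := by decide +kernel

end Cfsg.Agent.Spor.Th
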