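import Cfsg.Agent.Lib.Spor.Th.Data
import Cfsg.Agent.Lib.Spor.ThA.Defs
import Cfsg.Agent.Lib.Spor.Th.Top

set_option autoImplicit false
set_option maxRecDepth 100000
set_option Elab.async false
set_option exponentiation.threshold 100000

namespace Cfsg.Agent.Spor.Th
open Cfsg.Agent.PG Cfsg.Agent.Spor Cfsg.Agent.Spor.ThA

theorem pc3p_2 : chkR P L 0 248 ((((pcPos 3 14 pc3).drop 7).drop 6).take 6) = true := by decide +kernel

theorem pc3p_3 : chkR P L 0 248 (((((pcPos 3 14 pc3).drop 7).drop 6).drop 6).take 6) = true := by decide +kernel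

theorem pc3p_4 : chkR P L 0 248 ((((((pcPos 3 14 pc3).drop 7).drop 6).drop 6).drop 6).take 6) = true := by decide +kernel

theorem pc3p_5 : chkR P L 0 248 (((((((pcPos 3 14 pc3).drop 7).drop 6).drop 6).drop 6).drop 6).take 6) = true := by decide +kernel

theorem pc3p_6 : chkR P L 0 248 ((((((((pcPos 3 14 pc3).drop 7).drop 6).drop 6).drop 6).drop 6).drop 6).take 5) = true := by decide +kernel

theorem pc3p_7 : chkR P L 0 248 (((((((((pcPos 3 14 pc3).drop 7).drop 6).drop 6).drop 6).drop 6).drop 6).drop 5).take 6) = true := by decide +kernel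

theorem pc3p_8 : chkR P L 0 248 ((((((((((pcPos 3 14 pc3).drop 7).drop 6).drop 6).drop 6).drop 6).drop 6).drop 5).drop 6).take 5) = true := by decide +kernel

theorem pc3p_9 : chkR P L 0 248 (((((((((((pcPos 3 14 pc3).drop 7).drop 6).drop 6).drop 6).drop 6).drop 6).drop 5).drop 6).drop 5).take 4) = true := by decide +kernel

theorem pc3p_10 : chkR P L 0 248 ((((((((((((pcPos 3 14 pc3).drop 7).drop 6).drop 6).drop 6).drop 6).drop 6).drop 5).drop 6).drop 5).drop 4).take 6) = true := by decide +kernel

theorem pc3p_11 : chkR P L 0 248 (((((((((((((pcPos 3 14 pc3).drop 7).drop 6).drop 6).drop 6).drop 6).drop 6).drop 5).drop 6).drop 5).drop 4).drop 6).take 6) = true := by decide +kernel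

theorem pc3p_12 : chkR P L 0 248 ((((((((((((((pcPos 3 14 pc3).drop 7).drop 6).drop 6).drop 6).drop 6).drop 6).drop 5).drop 6).drop 5).drop 4).drop 6).drop 6).take 4) = true := by decide +kernel

theorem pc3p_13 : chkR P L 0 248 (((((((((((((((pcPos 3 14 pc3).drop 7).drop 6).drop 6).drop 6).drop 6).drop 6).drop 5).drop 6).drop 5).drop 4).drop 6).drop 6).drop 4).take 6) = true := by decide +kernel

theorem pc3p_14 : chkR P L 0 248 ((((((((((((((((pcPos 3 14 pc3).drop 7).drop 6).drop 6).drop 6).drop 6).drop 6).drop 5).drop 6).drop 5).drop 4).drop 6).drop 6).drop 4).drop 6).take 6) = true := by decide +kernel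

theorem pc3p_15 : chkR P L 0 248 (((((((((((((((((pcPos 3 14 pc3).drop 7).drop 6).drop 6).drop 6).drop 6).drop 6).drop 5).drop 6).drop 5).drop 4).drop 6).drop 6).drop 4).drop 6).drop 6).take 4) = true := by decide +kernel

theorem pc3p_16 : chkR P L 0 248 ((((((((((((((((((pcPos 3 14 pc3).drop 7).drop 6).drop 6).drop 6).drop 6).drop 6).drop 5).drop 6).drop 5).drop 4).drop 6).drop 6).drop 4).drop 6).drop 6).drop 4).take 5) = true := by decide +kernel

theorem pc3p_17 : chkR P L 0 248 ((((((((((((((((((pcPos 3 14 pc3).drop 7).drop 6).drop 6).drop 6).drop 6).drop 6).drop 5).drop 6).drop 5).drop 4).drop 6).drop 6).drop 4).drop 6).drop 6).drop 4).drop 5) = true := by decide +kernel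

theorem pc3n_0 : chkN P L (pcNeg 14 pc3) = true := by decide +kernel

theorem pc5p_0 : chkR P L 0 248 ((pcPos 3 51 pc5).take 7) = true := by decide +kernel

theorem pc5p_1 : chkR P L 0 248 (((pcPos 3 51 pc5).drop 7).take 6) = true := by decide +kernel

theorem pc5p_2 : chkR P L 0 248 ((((pcPos 3 51 pc5).drop 7).drop 6).take 6) = true := by decide +kernel

theorem pc5p_3 : chkR P L 0 248 ((((pcPos 3 51 pc5).drop 7).drop 6).drop 6) = true := by decide +kernel

theorem pc5n_0 : chkN P L (pcNeg 51 pc5) = true := by decide +kernel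

theorem es_0 : chkR P L 0 248 ((esClaims 24 4).take 8) = true := by decide +kernel

theorem es_1 : chkR P L 0 248 (((esClaims 24 4).drop 8).take 6) = true := by decide +kernel

theorem es_2 : chkR P L 0 248 ((((esClaims 24 4).drop 8).drop 6).take 7) = true := by decide +kernel

end Cfsg.Agent.Spor.Th
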