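import Cfsg.Agent.Lib.Spor.Th.Data
import Cfsg.Agent.Lib.Spor.ThA.Defs
import Cfsg.Agent.Lib.Spor.Th.Top

set_option autoImplicit false
set_option maxRecDepth 100000
set_option Elab.async false
set_option exponentiation.threshold 100000

namespace Cfsg.Agent.Spor.Th
open Cfsg.Agent.PG Cfsg.Agent.Spor Cfsg.Agent.Spor.ThA

theorem es_3 : chkR P L 0 248 (((((esClaims 24 4).drop 8).drop 6).drop 7).take 6) = true := by decide +kernel

theorem es_4 : chkR P L 0 248 ((((((esClaims 24 4).drop 8).drop 6).drop 7).drop 6).take 7) = true := by decide +kernel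

theorem es_5 : chkR P L 0 248 (((((((esClaims 24 4).drop 8).drop 6).drop 7).drop 6).drop 7).take 6) = true := by decide +kernel

theorem es_6 : chkR P L 0 248 (((((((esClaims 24 4).drop 8).drop 6).drop 7).drop 6).drop 7).drop 6) = true := by decide +kernel

theorem nzq_0 : chkR P L 0 248 ((nzClaims 33 24 nzq_r).take 3) = true := by decide +kernel

theorem nzq_1 : chkR P L 0 248 (((nzClaims 33 24 nzq_r).drop 3).take 3) = true := by decide +kernel

theorem nzq_2 : chkR P L 0 248 ((((nzClaims 33 24 nzq_r).drop 3).drop 3).take 3) = true := by decide +kernel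

theorem nzq_3 : chkR P L 0 248 (((((nzClaims 33 24 nzq_r).drop 3).drop 3).drop 3).take 4) = true := by decide +kernel

theorem nzq_4 : chkR P L 0 248 ((((((nzClaims 33 24 nzq_r).drop 3).drop 3).drop 3).drop 4).take 3) = true := by decide +kernel

theorem nzq_5 : chkR P L 0 248 (((((((nzClaims 33 24 nzq_r).drop 3).drop 3).drop 3).drop 4).drop 3).take 4) = true := by decide +kernel

theorem nzq_6 : chkR P L 0 248 ((((((((nzClaims 33 24 nzq_r).drop 3).drop 3).drop 3).drop 4).drop 3).drop 4).take 4) = true := by decide +kernel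

theorem nzq_7 : chkR P L 0 248 (((((((((nzClaims 33 24 nzq_r).drop 3).drop 3).drop 3).drop 4).drop 3).drop 4).drop 4).take 4) = true := by decide +kernel

theorem nzq_8 : chkR P L 0 248 ((((((((((nzClaims 33 24 nzq_r).drop 3).drop 3).drop 3).drop 4).drop 3).drop 4).drop 4).drop 4).take 3) = true := by decide +kernel

theorem nzq_9 : chkR P L 0 248 (((((((((((nzClaims 33 24 nzq_r).drop 3).drop 3).drop 3).drop 4).drop 3).drop 4).drop 4).drop 4).drop 3).take 3) = true := by decide +kernel

theorem nzq_10 : chkR P L 0 248 ((((((((((((nzClaims 33 24 nzq_r).drop 3).drop 3).drop 3).drop 4).drop 3).drop 4).drop 4).drop 4).drop 3).drop 3).take 4) = true := by decide +kernel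

theorem nzq_11 : chkR P L 0 248 (((((((((((((nzClaims 33 24 nzq_r).drop 3).drop 3).drop 3).drop 4).drop 3).drop 4).drop 4).drop 4).drop 3).drop 3).drop 4).take 3) = true := by decide +kernel

theorem nzq_12 : chkR P L 0 248 ((((((((((((((nzClaims 33 24 nzq_r).drop 3).drop 3).drop 3).drop 4).drop 3).drop 4).drop 4).drop 4).drop 3).drop 3).drop 4).drop 3).take 4) = true := by decide +kernel

theorem nzq_13 : chkR P L 0 248 (((((((((((((((nzClaims 33 24 nzq_r).drop 3).drop 3).drop 3).drop 4).drop 3).drop 4).drop 4).drop 4).drop 3).drop 3).drop 4).drop 3).drop 4).take 4) = true := by decide +kernel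

theorem nzq_14 : chkR P L 0 248 ((((((((((((((((nzClaims 33 24 nzq_r).drop 3).drop 3).drop 3).drop 4).drop 3).drop 4).drop 4).drop 4).drop 3).drop 3).drop 4).drop 3).drop 4).drop 4).take 4) = true := by decide +kernel

theorem nzq_15 : chkR P L 0 248 (((((((((((((((((nzClaims 33 24 nzq_r).drop 3).drop 3).drop 3).drop 4).drop 3).drop 4).drop 4).drop 4).drop 3).drop 3).drop 4).drop 3).drop 4).drop 4).drop 4).take 4) = true := by decide +kernel

theorem nzq_16 : chkR P L 0 248 ((((((((((((((((((nzClaims 33 24 nzq_r).drop 3).drop 3).drop 3).drop 4).drop 3).drop 4).drop 4).drop 4).drop 3).drop 3).drop 4).drop 3).drop 4).drop 4).drop 4).drop 4).take 3) = true := by decide +kernel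

theorem nzq_17 : chkR P L 0 248 ((((((((((((((((((nzClaims 33 24 nzq_r).drop 3).drop 3).drop 3).drop 4).drop 3).drop 4).drop 4).drop 4).drop 3).drop 3).drop 4).drop 3).drop 4).drop 4).drop 4).drop 4).drop 3) = true := by decide +kernel

theorem md6_0 : chkR P L 0 248 (modClaims ThB.cl6_l mdw6) = true := by decide +kernel

theorem md5_0 : chkR P L 0 248 ((modClaims ThB.cl5_l mdw5).take 5) = true := by decide +kernel

theorem md5_1 : chkR P L 0 248 ((modClaims ThB.cl5_l mdw5).drop 5) = true := by decide +kernel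

end Cfsg.Agent.Spor.Th
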