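import Cfsg.Agent.Lib.Spor.Th.Data
import Cfsg.Agent.Lib.Spor.ThA.Defs
import Cfsg.Agent.Lib.Spor.Th.Top

set_option autoImplicit false
set_option maxRecDepth 100000
set_option Elab.async false
set_option exponentiation.threshold 100000

namespace Cfsg.Agent.Spor.Th
open Cfsg.Agent.PG Cfsg.Agent.Spor Cfsg.Agent.Spor.ThA

theorem mcl1_14 : chkR P L 0 248 ((((((((((((((((ThA.cl1_l).drop 2).drop 4).drop 10).drop 2).drop 2).drop 1).drop 1).drop 1).drop 1).drop 1).drop 1).drop 1).drop 1).drop 1).take 1) = true := by decide +kernel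

theorem mcl1_15 : chkR P L 0 248 (((((((((((((((((ThA.cl1_l).drop 2).drop 4).drop 10).drop 2).drop 2).drop 1).drop 1).drop 1).drop 1).drop 1).drop 1).drop 1).drop 1).drop 1).drop 1).take 1) = true := by decide +kernel

theorem mcl1_16 : chkR P L 0 248 ((((((((((((((((((ThA.cl1_l).drop 2).drop 4).drop 10).drop 2).drop 2).drop 1).drop 1).drop 1).drop 1).drop 1).drop 1).drop 1).drop 1).drop 1).drop 1).drop 1).take 1) = true := by decide +kernel

theorem mcl1_17 : chkR P L 0 248 (((((((((((((((((((ThA.cl1_l).drop 2).drop 4).drop 10).drop 2).drop 2).drop 1).drop 1).drop 1).drop 1).drop 1).drop 1).drop 1).drop 1).drop 1).drop 1).drop 1).drop 1).take 1) = true := by decide +kernel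

theorem mcl1_18 : chkR P L 0 248 ((((((((((((((((((((ThA.cl1_l).drop 2).drop 4).drop 10).drop 2).drop 2).drop 1).drop 1).drop 1).drop 1).drop 1).drop 1).drop 1).drop 1).drop 1).drop 1).drop 1).drop 1).drop 1).take 2) = true := by decide +kernel

theorem mcl1_19 : chkR P L 0 248 (((((((((((((((((((((ThA.cl1_l).drop 2).drop 4).drop 10).drop 2).drop 2).drop 1).drop 1).drop 1).drop 1).drop 1).drop 1).drop 1).drop 1).drop 1).drop 1).drop 1).drop 1).drop 1).drop 2).take 1) = true := by decide +kernel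

theorem mcl1_20 : chkR P L 0 248 ((((((((((((((((((((((ThA.cl1_l).drop 2).drop 4).drop 10).drop 2).drop 2).drop 1).drop 1).drop 1).drop 1).drop 1).drop 1).drop 1).drop 1).drop 1).drop 1).drop 1).drop 1).drop 1).drop 2).drop 1).take 1) = true := by decide +kernel

theorem mcl1_21 : chkR P L 0 248 (((((((((((((((((((((((ThA.cl1_l).drop 2).drop 4).drop 10).drop 2).drop 2).drop 1).drop 1).drop 1).drop 1).drop 1).drop 1).drop 1).drop 1).drop 1).drop 1).drop 1).drop 1).drop 1).drop 2).drop 1).drop 1).take 1) = true := by decide +kernel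

theorem mcl1_22 : chkR P L 0 248 ((((((((((((((((((((((((ThA.cl1_l).drop 2).drop 4).drop 10).drop 2).drop 2).drop 1).drop 1).drop 1).drop 1).drop 1).drop 1).drop 1).drop 1).drop 1).drop 1).drop 1).drop 1).drop 1).drop 2).drop 1).drop 1).drop 1).take 1) = true := by decide +kernel

theorem mcl1_23 : chkR P L 0 248 (((((((((((((((((((((((((ThA.cl1_l).drop 2).drop 4).drop 10).drop 2).drop 2).drop 1).drop 1).drop 1).drop 1).drop 1).drop 1).drop 1).drop 1).drop 1).drop 1).drop 1).drop 1).drop 1).drop 2).drop 1).drop 1).drop 1).drop 1).take 1) = true := by decide +kernel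

theorem mcl1_24 : chkR P L 0 248 ((((((((((((((((((((((((((ThA.cl1_l).drop 2).drop 4).drop 10).drop 2).drop 2).drop 1).drop 1).drop 1).drop 1).drop 1).drop 1).drop 1).drop 1).drop 1).drop 1).drop 1).drop 1).drop 1).drop 2).drop 1).drop 1).drop 1).drop 1).drop 1).take 1) = true := by decide +kernel

theorem mcl1_25 : chkR P L 0 248 (((((((((((((((((((((((((((ThA.cl1_l).drop 2).drop 4).drop 10).drop 2).drop 2).drop 1).drop 1).drop 1).drop 1).drop 1).drop 1).drop 1).drop 1).drop 1).drop 1).drop 1).drop 1).drop 1).drop 2).drop 1).drop 1).drop 1).drop 1).drop 1).drop 1).take 1) = true := by decide +kernel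

theorem mcl1_26 : chkR P L 0 248 ((((((((((((((((((((((((((((ThA.cl1_l).drop 2).drop 4).drop 10).drop 2).drop 2).drop 1).drop 1).drop 1).drop 1).drop 1).drop 1).drop 1).drop 1).drop 1).drop 1).drop 1).drop 1).drop 1).drop 2).drop 1).drop 1).drop 1).drop 1).drop 1).drop 1).drop 1).take 1) = true := by decide +kernel

theorem mcl1_27 : chkR P L 0 248 (((((((((((((((((((((((((((((ThA.cl1_l).drop 2).drop 4).drop 10).drop 2).drop 2).drop 1).drop 1).drop 1).drop 1).drop 1).drop 1).drop 1).drop 1).drop 1).drop 1).drop 1).drop 1).drop 1).drop 2).drop 1).drop 1).drop 1).drop 1).drop 1).drop 1).drop 1).drop 1).take 1) = true := by decide +kernel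

theorem mcl1_28 : chkR P L 0 248 ((((((((((((((((((((((((((((((ThA.cl1_l).drop 2).drop 4).drop 10).drop 2).drop 2).drop 1).drop 1).drop 1).drop 1).drop 1).drop 1).drop 1).drop 1).drop 1).drop 1).drop 1).drop 1).drop 1).drop 2).drop 1).drop 1).drop 1).drop 1).drop 1).drop 1).drop 1).drop 1).drop 1).take 1) = true := by decide +kernel

theorem mcl1_29 : chkR P L 0 248 (((((((((((((((((((((((((((((((ThA.cl1_l).drop 2).drop 4).drop 10).drop 2).drop 2).drop 1).drop 1).drop 1).drop 1).drop 1).drop 1).drop 1).drop 1).drop 1).drop 1).drop 1).drop 1).drop 1).drop 2).drop 1).drop 1).drop 1).drop 1).drop 1).drop 1).drop 1).drop 1).drop 1).drop 1).take 1) = true := by decide +kernel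

theorem mcl1_30 : chkR P L 0 248 ((((((((((((((((((((((((((((((((ThA.cl1_l).drop 2).drop 4).drop 10).drop 2).drop 2).drop 1).drop 1).drop 1).drop 1).drop 1).drop 1).drop 1).drop 1).drop 1).drop 1).drop 1).drop 1).drop 1).drop 2).drop 1).drop 1).drop 1).drop 1).drop 1).drop 1).drop 1).drop 1).drop 1).drop 1).drop 1).take 1) = true := by decide +kernel

theorem mcl1_31 : chkR P L 0 248 (((((((((((((((((((((((((((((((((ThA.cl1_l).drop 2).drop 4).drop 10).drop 2).drop 2).drop 1).drop 1).drop 1).drop 1).drop 1).drop 1).drop 1).drop 1).drop 1).drop 1).drop 1).drop 1).drop 1).drop 2).drop 1).drop 1).drop 1).drop 1).drop 1).drop 1).drop 1).drop 1).drop 1).drop 1).drop 1).drop 1).take 1) = true := by decide +kernel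

theorem mcl1_32 : chkR P L 0 248 ((((((((((((((((((((((((((((((((((ThA.cl1_l).drop 2).drop 4).drop 10).drop 2).drop 2).drop 1).drop 1).drop 1).drop 1).drop 1).drop 1).drop 1).drop 1).drop 1).drop 1).drop 1).drop 1).drop 1).drop 2).drop 1).drop 1).drop 1).drop 1).drop 1).drop 1).drop 1).drop 1).drop 1).drop 1).drop 1).drop 1).drop 1).take 2) = true := by decide +kernel

theorem mcl1_33 : chkR P L 0 248 (((((((((((((((((((((((((((((((((((ThA.cl1_l).drop 2).drop 4).drop 10).drop 2).drop 2).drop 1).drop 1).drop 1).drop 1).drop 1).drop 1).drop 1).drop 1).drop 1).drop 1).drop 1).drop 1).drop 1).drop 2).drop 1).drop 1).drop 1).drop 1).drop 1).drop 1).drop 1).drop 1).drop 1).drop 1).drop 1).drop 1).drop 1).drop 2).take 1) = true := by decide +kernel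

theorem mcl1_34 : chkR P L 0 248 ((((((((((((((((((((((((((((((((((((ThA.cl1_l).drop 2).drop 4).drop 10).drop 2).drop 2).drop 1).drop 1).drop 1).drop 1).drop 1).drop 1).drop 1).drop 1).drop 1).drop 1).drop 1).drop 1).drop 1).drop 2).drop 1).drop 1).drop 1).drop 1).drop 1).drop 1).drop 1).drop 1).drop 1).drop 1).drop 1).drop 1).drop 1).drop 2).drop 1).take 1) = true := by decide +kernel

theorem mcl1_35 : chkR P L 0 248 (((((((((((((((((((((((((((((((((((((ThA.cl1_l).drop 2).drop 4).drop 10).drop 2).drop 2).drop 1).drop 1).drop 1).drop 1).drop 1).drop 1).drop 1).drop 1).drop 1).drop 1).drop 1).drop 1).drop 1).drop 2).drop 1).drop 1).drop 1).drop 1).drop 1).drop 1).drop 1).drop 1).drop 1).drop 1).drop 1).drop 1).drop 1).drop 2).drop 1).drop 1).take 1) = true := by decide +kernel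

theorem mcl1_36 : chkR P L 0 248 ((((((((((((((((((((((((((((((((((((((ThA.cl1_l).drop 2).drop 4).drop 10).drop 2).drop 2).drop 1).drop 1).drop 1).drop 1).drop 1).drop 1).drop 1).drop 1).drop 1).drop 1).drop 1).drop 1).drop 1).drop 2).drop 1).drop 1).drop 1).drop 1).drop 1).drop 1).drop 1).drop 1).drop 1).drop 1).drop 1).drop 1).drop 1).drop 2).drop 1).drop 1).drop 1).take 1) = true := by decide +kernel

theorem mcl1_37 : chkR P L 0 248 (((((((((((((((((((((((((((((((((((((((ThA.cl1_l).drop 2).drop 4).drop 10).drop 2).drop 2).drop 1).drop 1).drop 1).drop 1).drop 1).drop 1).drop 1).drop 1).drop 1).drop 1).drop 1).drop 1).drop 1).drop 2).drop 1).drop 1).drop 1).drop 1).drop 1).drop 1).drop 1).drop 1).drop 1).drop 1).drop 1).drop 1).drop 1).drop 2).drop 1).drop 1).drop 1).drop 1).take 1) = true := by decide +kernel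

theorem mcl1_38 : chkR P L 0 248 ((((((((((((((((((((((((((((((((((((((((ThA.cl1_l).drop 2).drop 4).drop 10).drop 2).drop 2).drop 1).drop 1).drop 1).drop 1).drop 1).drop 1).drop 1).drop 1).drop 1).drop 1).drop 1).drop 1).drop 1).drop 2).drop 1).drop 1).drop 1).drop 1).drop 1).drop 1).drop 1).drop 1).drop 1).drop 1).drop 1).drop 1).drop 1).drop 2).drop 1).drop 1).drop 1).drop 1).drop 1).take 1) = true := by decide +kernel

theorem mcl1_39 : chkR P L 0 248 (((((((((((((((((((((((((((((((((((((((((ThA.cl1_l).drop 2).drop 4).drop 10).drop 2).drop 2).drop 1).drop 1).drop 1).drop 1).drop 1).drop 1).drop 1).drop 1).drop 1).drop 1).drop 1).drop 1).drop 1).drop 2).drop 1).drop 1).drop 1).drop 1).drop 1).drop 1).drop 1).drop 1).drop 1).drop 1).drop 1).drop 1).drop 1).drop 2).drop 1).drop 1).drop 1).drop 1).drop 1).drop 1).take 1) = true := by decide +kernel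

theorem mcl1_40 : chkR P L 0 248 ((((((((((((((((((((((((((((((((((((((((((ThA.cl1_l).drop 2).drop 4).drop 10).drop 2).drop 2).drop 1).drop 1).drop 1).drop 1).drop 1).drop 1).drop 1).drop 1).drop 1).drop 1).drop 1).drop 1).drop 1).drop 2).drop 1).drop 1).drop 1).drop 1).drop 1).drop 1).drop 1).drop 1).drop 1).drop 1).drop 1).drop 1).drop 1).drop 2).drop 1).drop 1).drop 1).drop 1).drop 1).drop 1).drop 1).take 1) = true := by decide +kernel

theorem mcl1_41 : chkR P L 0 248 (((((((((((((((((((((((((((((((((((((((((((ThA.cl1_l).drop 2).drop 4).drop 10).drop 2).drop 2).drop 1).drop 1).drop 1).drop 1).drop 1).drop 1).drop 1).drop 1).drop 1).drop 1).drop 1).drop 1).drop 1).drop 2).drop 1).drop 1).drop 1).drop 1).drop 1).drop 1).drop 1).drop 1).drop 1).drop 1).drop 1).drop 1).drop 1).drop 2).drop 1).drop 1).drop 1).drop 1).drop 1).drop 1).drop 1).drop 1).take 1) = true := by decide +kernel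

theorem mcl1_42 : chkR P L 0 248 ((((((((((((((((((((((((((((((((((((((((((((ThA.cl1_l).drop 2).drop 4).drop 10).drop 2).drop 2).drop 1).drop 1).drop 1).drop 1).drop 1).drop 1).drop 1).drop 1).drop 1).drop 1).drop 1).drop 1).drop 1).drop 2).drop 1).drop 1).drop 1).drop 1).drop 1).drop 1).drop 1).drop 1).drop 1).drop 1).drop 1).drop 1).drop 1).drop 2).drop 1).drop 1).drop 1).drop 1).drop 1).drop 1).drop 1).drop 1).drop 1).take 1) = true := by decide +kernel

end Cfsg.Agent.Spor.Th
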