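import Cfsg.Agent.Lib.Spor.Th.Data
import Cfsg.Agent.Lib.Spor.ThA.Defs
import Cfsg.Agent.Lib.Spor.Th.Top

set_option autoImplicit false
set_option maxRecDepth 100000
set_option Elab.async false
set_option exponentiation.threshold 100000

namespace Cfsg.Agent.Spor.Th
open Cfsg.Agent.PG Cfsg.Agent.Spor Cfsg.Agent.Spor.ThA

theorem md4_0 : chkR P L 0 248 ((modClaims ThB.cl4_l mdw4).take 5) = true := by decide +kernel

theorem md4_1 : chkR P L 0 248 (((modClaims ThB.cl4_l mdw4).drop 5).take 3) = true := by decide +kernel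

theorem md4_2 : chkR P L 0 248 ((((modClaims ThB.cl4_l mdw4).drop 5).drop 3).take 2) = true := by decide +kernel

theorem md4_3 : chkR P L 0 248 (((((modClaims ThB.cl4_l mdw4).drop 5).drop 3).drop 2).take 2) = true := by decide +kernel

theorem md4_4 : chkR P L 0 248 (((((modClaims ThB.cl4_l mdw4).drop 5).drop 3).drop 2).drop 2) = true := by decide +kernel

theorem md3_0 : chkR P L 0 248 ((modClaims ThB.cl3_l mdw3).take 6) = true := by decide +kernel

theorem md3_1 : chkR P L 0 248 (((modClaims ThB.cl3_l mdw3).drop 6).take 3) = true := by decide +kernel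

theorem md3_2 : chkR P L 0 248 ((((modClaims ThB.cl3_l mdw3).drop 6).drop 3).take 2) = true := by decide +kernel

theorem md3_3 : chkR P L 0 248 (((((modClaims ThB.cl3_l mdw3).drop 6).drop 3).drop 2).take 3) = true := by decide +kernel

theorem md3_4 : chkR P L 0 248 ((((((modClaims ThB.cl3_l mdw3).drop 6).drop 3).drop 2).drop 3).take 2) = true := by decide +kernel

theorem md3_5 : chkR P L 0 248 (((((((modClaims ThB.cl3_l mdw3).drop 6).drop 3).drop 2).drop 3).drop 2).take 1) = true := by decide +kernel

theorem md3_6 : chkR P L 0 248 ((((((((modClaims ThB.cl3_l mdw3).drop 6).drop 3).drop 2).drop 3).drop 2).drop 1).take 1) = true := by decide +kernel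

theorem md3_7 : chkR P L 0 248 (((((((((modClaims ThB.cl3_l mdw3).drop 6).drop 3).drop 2).drop 3).drop 2).drop 1).drop 1).take 1) = true := by decide +kernel

theorem md3_8 : chkR P L 0 248 ((((((((((modClaims ThB.cl3_l mdw3).drop 6).drop 3).drop 2).drop 3).drop 2).drop 1).drop 1).drop 1).take 2) = true := by decide +kernel

theorem md3_9 : chkR P L 0 248 (((((((((((modClaims ThB.cl3_l mdw3).drop 6).drop 3).drop 2).drop 3).drop 2).drop 1).drop 1).drop 1).drop 2).take 1) = true := by decide +kernel

theorem md3_10 : chkR P L 0 248 ((((((((((((modClaims ThB.cl3_l mdw3).drop 6).drop 3).drop 2).drop 3).drop 2).drop 1).drop 1).drop 1).drop 2).drop 1).take 1) = true := by decide +kernel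

theorem md3_11 : chkR P L 0 248 ((((((((((((modClaims ThB.cl3_l mdw3).drop 6).drop 3).drop 2).drop 3).drop 2).drop 1).drop 1).drop 1).drop 2).drop 1).drop 1) = true := by decide +kernel

theorem md2_0 : chkR P L 0 248 ((modClaims ThB.cl2_l mdw2).take 1) = true := by decide +kernel

theorem md2_1 : chkR P L 0 248 (((modClaims ThB.cl2_l mdw2).drop 1).take 3) = true := by decide +kernel

theorem md2_2 : chkR P L 0 248 ((((modClaims ThB.cl2_l mdw2).drop 1).drop 3).take 5) = true := by decide +kernel

theorem md2_3 : chkR P L 0 248 ((((modClaims ThB.cl2_l mdw2).drop 1).drop 3).drop 5) = true := by decide +kernel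

theorem md1_0 : chkR P L 0 248 ((modClaims ThB.cl1_l mdw1).take 2) = true := by decide +kernel

theorem md1_1 : chkR P L 0 248 (((modClaims ThB.cl1_l mdw1).drop 2).take 2) = true := by decide +kernel

theorem md1_2 : chkR P L 0 248 ((((modClaims ThB.cl1_l mdw1).drop 2).drop 2).take 7) = true := by decide +kernel

theorem md1_3 : chkR P L 0 248 (((((modClaims ThB.cl1_l mdw1).drop 2).drop 2).drop 7).take 1) = true := by decide +kernel

theorem md1_4 : chkR P L 0 248 ((((((modClaims ThB.cl1_l mdw1).drop 2).drop 2).drop 7).drop 1).take 1) = true := by decide +kernel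

theorem md1_5 : chkR P L 0 248 ((((((modClaims ThB.cl1_l mdw1).drop 2).drop 2).drop 7).drop 1).drop 1) = true := by decide +kernel

theorem md0_0 : chkR P L 0 248 ((modClaims ThB.cl0_l mdw0).take 1) = true := by decide +kernel

end Cfsg.Agent.Spor.Th
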