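import Cfsg.Agent.Lib.Spor.Th.Data
import Cfsg.Agent.Lib.Spor.ThA.Defs
import Cfsg.Agent.Lib.Spor.Th.Top

set_option autoImplicit false
set_option maxRecDepth 100000
set_option Elab.async false
set_option exponentiation.threshold 100000

namespace Cfsg.Agent.Spor.Th
open Cfsg.Agent.PG Cfsg.Agent.Spor Cfsg.Agent.Spor.ThA

theorem md0_1 : chkR P L 0 248 (((modClaims ThB.cl0_l mdw0).drop 1).take 1) = true := by decide +kernel

theorem md0_2 : chkR P L 0 248 ((((modClaims ThB.cl0_l mdw0).drop 1).drop 1).take 1) = true := by decide +kernel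

theorem md0_3 : chkR P L 0 248 (((((modClaims ThB.cl0_l mdw0).drop 1).drop 1).drop 1).take 3) = true := by decide +kernel

theorem md0_4 : chkR P L 0 248 ((((((modClaims ThB.cl0_l mdw0).drop 1).drop 1).drop 1).drop 3).take 6) = true := by decide +kernel

theorem md0_5 : chkR P L 0 248 (((((((modClaims ThB.cl0_l mdw0).drop 1).drop 1).drop 1).drop 3).drop 6).take 2) = true := by decide +kernel

theorem md0_6 : chkR P L 0 248 (((((((modClaims ThB.cl0_l mdw0).drop 1).drop 1).drop 1).drop 3).drop 6).drop 2) = true := by decide +kernel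

theorem mb9_0 : chkR P L 0 248 (modClaims ThC.cl9_l mbw9) = true := by decide +kernel

theorem mb8_0 : chkR P L 0 248 (modClaims ThC.cl8_l mbw8) = true := by decide +kernel

theorem mb7_0 : chkR P L 0 248 (modClaims ThC.cl7_l mbw7) = true := by decide +kernel

theorem mb6_0 : chkR P L 0 248 (modClaims ThC.cl6_l mbw6) = true := by decide +kernel

theorem mb5_0 : chkR P L 0 248 ((modClaims ThC.cl5_l mbw5).take 8) = true := by decide +kernel

theorem mb5_1 : chkR P L 0 248 ((modClaims ThC.cl5_l mbw5).drop 8) = true := by decide +kernel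

theorem mb4_0 : chkR P L 0 248 ((modClaims ThC.cl4_l mbw4).take 8) = true := by decide +kernel

theorem mb4_1 : chkR P L 0 248 ((modClaims ThC.cl4_l mbw4).drop 8) = true := by decide +kernel

theorem mb3_0 : chkR P L 0 248 ((modClaims ThC.cl3_l mbw3).take 6) = true := by decide +kernel

theorem mb3_1 : chkR P L 0 248 (((modClaims ThC.cl3_l mbw3).drop 6).take 9) = true := by decide +kernel

theorem mb3_2 : chkR P L 0 248 ((((modClaims ThC.cl3_l mbw3).drop 6).drop 9).take 3) = true := by decide +kernel

theorem mb3_3 : chkR P L 0 248 (((((modClaims ThC.cl3_l mbw3).drop 6).drop 9).drop 3).take 3) = true := by decide +kernel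

theorem mb3_4 : chkR P L 0 248 ((((((modClaims ThC.cl3_l mbw3).drop 6).drop 9).drop 3).drop 3).take 3) = true := by decide +kernel

theorem mb3_5 : chkR P L 0 248 ((((((modClaims ThC.cl3_l mbw3).drop 6).drop 9).drop 3).drop 3).drop 3) = true := by decide +kernel

theorem mb2_0 : chkR P L 0 248 ((modClaims ThC.cl2_l mbw2).take 4) = true := by decide +kernel

theorem mb2_1 : chkR P L 0 248 (((modClaims ThC.cl2_l mbw2).drop 4).take 10) = true := by decide +kernel

theorem mb2_2 : chkR P L 0 248 ((((modClaims ThC.cl2_l mbw2).drop 4).drop 10).take 2) = true := by decide +kernel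

theorem mb2_3 : chkR P L 0 248 (((((modClaims ThC.cl2_l mbw2).drop 4).drop 10).drop 2).take 2) = true := by decide +kernel

theorem mb2_4 : chkR P L 0 248 ((((((modClaims ThC.cl2_l mbw2).drop 4).drop 10).drop 2).drop 2).take 2) = true := by decide +kernel

theorem mb2_5 : chkR P L 0 248 (((((((modClaims ThC.cl2_l mbw2).drop 4).drop 10).drop 2).drop 2).drop 2).take 1) = true := by decide +kernel

theorem mb2_6 : chkR P L 0 248 ((((((((modClaims ThC.cl2_l mbw2).drop 4).drop 10).drop 2).drop 2).drop 2).drop 1).take 1) = true := by decide +kernel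

theorem mb2_7 : chkR P L 0 248 (((((((((modClaims ThC.cl2_l mbw2).drop 4).drop 10).drop 2).drop 2).drop 2).drop 1).drop 1).take 1) = true := by decide +kernel

theorem mb2_8 : chkR P L 0 248 ((((((((((modClaims ThC.cl2_l mbw2).drop 4).drop 10).drop 2).drop 2).drop 2).drop 1).drop 1).drop 1).take 2) = true := by decide +kernel

end Cfsg.Agent.Spor.Th
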