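import Cfsg.Agent.Lib.Spor.Th.Data
import Cfsg.Agent.Lib.Spor.ThA.Defs
import Cfsg.Agent.Lib.Spor.Th.Top

set_option autoImplicit false
set_option maxRecDepth 100000
set_option Elab.async false
set_option exponentiation.threshold 100000

namespace Cfsg.Agent.Spor.Th
open Cfsg.Agent.PG Cfsg.Agent.Spor Cfsg.Agent.Spor.ThA

theorem mb2_9 : chkR P L 0 248 ((((((((((modClaims ThC.cl2_l mbw2).drop 4).drop 10).drop 2).drop 2).drop 2).drop 1).drop 1).drop 1).drop 2) = true := by decide +kernel

theorem mb1_0 : chkR P L 0 248 ((modClaims ThC.cl1_l mbw1).take 3) = true := by decide +kernel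

theorem mb1_1 : chkR P L 0 248 (((modClaims ThC.cl1_l mbw1).drop 3).take 8) = true := by decide +kernel

theorem mb1_2 : chkR P L 0 248 ((((modClaims ThC.cl1_l mbw1).drop 3).drop 8).take 7) = true := by decide +kernel

theorem mb1_3 : chkR P L 0 248 (((((modClaims ThC.cl1_l mbw1).drop 3).drop 8).drop 7).take 1) = true := by decide +kernel

theorem mb1_4 : chkR P L 0 248 ((((((modClaims ThC.cl1_l mbw1).drop 3).drop 8).drop 7).drop 1).take 1) = true := by decide +kernel

theorem mb1_5 : chkR P L 0 248 (((((((modClaims ThC.cl1_l mbw1).drop 3).drop 8).drop 7).drop 1).drop 1).take 2) = true := by decide +kernel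

theorem mb1_6 : chkR P L 0 248 (((((((modClaims ThC.cl1_l mbw1).drop 3).drop 8).drop 7).drop 1).drop 1).drop 2) = true := by decide +kernel

theorem mb0_0 : chkR P L 0 248 ((modClaims ThC.cl0_l mbw0).take 2) = true := by decide +kernel

theorem mb0_1 : chkR P L 0 248 (((modClaims ThC.cl0_l mbw0).drop 2).take 1) = true := by decide +kernel

theorem mb0_2 : chkR P L 0 248 ((((modClaims ThC.cl0_l mbw0).drop 2).drop 1).take 2) = true := by decide +kernel

theorem mb0_3 : chkR P L 0 248 (((((modClaims ThC.cl0_l mbw0).drop 2).drop 1).drop 2).take 2) = true := by decide +kernel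

theorem mb0_4 : chkR P L 0 248 ((((((modClaims ThC.cl0_l mbw0).drop 2).drop 1).drop 2).drop 2).take 7) = true := by decide +kernel

theorem mb0_5 : chkR P L 0 248 (((((((modClaims ThC.cl0_l mbw0).drop 2).drop 1).drop 2).drop 2).drop 7).take 5) = true := by decide +kernel

theorem mb0_6 : chkR P L 0 248 ((((((((modClaims ThC.cl0_l mbw0).drop 2).drop 1).drop 2).drop 2).drop 7).drop 5).take 2) = true := by decide +kernel

theorem mb0_7 : chkR P L 0 248 (((((((((modClaims ThC.cl0_l mbw0).drop 2).drop 1).drop 2).drop 2).drop 7).drop 5).drop 2).take 1) = true := by decide +kernel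

theorem mb0_8 : chkR P L 0 248 ((((((((((modClaims ThC.cl0_l mbw0).drop 2).drop 1).drop 2).drop 2).drop 7).drop 5).drop 2).drop 1).take 1) = true := by decide +kernel

theorem mb0_9 : chkR P L 0 248 (((((((((((modClaims ThC.cl0_l mbw0).drop 2).drop 1).drop 2).drop 2).drop 7).drop 5).drop 2).drop 1).drop 1).take 1) = true := by decide +kernel

theorem mb0_10 : chkR P L 0 248 ((((((((((((modClaims ThC.cl0_l mbw0).drop 2).drop 1).drop 2).drop 2).drop 7).drop 5).drop 2).drop 1).drop 1).drop 1).take 2) = true := by decide +kernel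

theorem mb0_11 : chkR P L 0 248 (((((((((((((modClaims ThC.cl0_l mbw0).drop 2).drop 1).drop 2).drop 2).drop 7).drop 5).drop 2).drop 1).drop 1).drop 1).drop 2).take 1) = true := by decide +kernel

theorem mb0_12 : chkR P L 0 248 ((((((((((((((modClaims ThC.cl0_l mbw0).drop 2).drop 1).drop 2).drop 2).drop 7).drop 5).drop 2).drop 1).drop 1).drop 1).drop 2).drop 1).take 1) = true := by decide +kernel

theorem mb0_13 : chkR P L 0 248 (((((((((((((((modClaims ThC.cl0_l mbw0).drop 2).drop 1).drop 2).drop 2).drop 7).drop 5).drop 2).drop 1).drop 1).drop 1).drop 2).drop 1).drop 1).take 1) = true := by decide +kernel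

theorem mb0_14 : chkR P L 0 248 ((((((((((((((((modClaims ThC.cl0_l mbw0).drop 2).drop 1).drop 2).drop 2).drop 7).drop 5).drop 2).drop 1).drop 1).drop 1).drop 2).drop 1).drop 1).drop 1).take 1) = true := by decide +kernel

theorem mb0_15 : chkR P L 0 248 ((((((((((((((((modClaims ThC.cl0_l mbw0).drop 2).drop 1).drop 2).drop 2).drop 7).drop 5).drop 2).drop 1).drop 1).drop 1).drop 2).drop 1).drop 1).drop 1).drop 1) = true := by decide +kernel

theorem cmz_0 : chkR P L 0 248 ((cmLet [gw 24] 24 40).take 6) = true := by decide +kernel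

theorem cmz_1 : chkR P L 0 248 (((cmLet [gw 24] 24 40).drop 6).take 6) = true := by decide +kernel

theorem cmz_2 : chkR P L 0 248 (((cmLet [gw 24] 24 40).drop 6).drop 6) = true := by decide +kernel

theorem ceqz_0 : chkR P L 0 248 ((eqClaims cgz cwz).take 1) = true := by decide +kernel

end Cfsg.Agent.Spor.Th
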