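import Cfsg.Agent.Lib.Spor.Th.Data
import Cfsg.Agent.Lib.Spor.ThA.Defs
import Cfsg.Agent.Lib.Spor.Th.Top

set_option autoImplicit false
set_option maxRecDepth 100000
set_option Elab.async false
set_option exponentiation.threshold 100000

namespace Cfsg.Agent.Spor.Th
open Cfsg.Agent.PG Cfsg.Agent.Spor Cfsg.Agent.Spor.ThA

theorem ceqz_1 : chkR P L 0 248 (((eqClaims cgz cwz).drop 1).take 1) = true := by decide +kernel

theorem ceqz_2 : chkR P L 0 248 ((((eqClaims cgz cwz).drop 1).drop 1).take 2) = true := by decide +kernel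

theorem ceqz_3 : chkR P L 0 248 (((((eqClaims cgz cwz).drop 1).drop 1).drop 2).take 2) = true := by decide +kernel

theorem ceqz_4 : chkR P L 0 248 (((((eqClaims cgz cwz).drop 1).drop 1).drop 2).drop 2) = true := by decide +kernel

theorem cgoodz_0 : chkR P L 0 248 (goodClaims (repsT.zip csz)) = true := by decide +kernel

theorem cbadz_0 : chkN P L (((badClaims czz cbz (repsT.zip csz)).zip cbadz_p).take 40) = true := by decide +kernel

theorem cbadz_1 : chkN P L (((badClaims czz cbz (repsT.zip csz)).zip cbadz_p).drop 40) = true := by decide +kernel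

theorem sm_0 : chkR P L 0 248 (([(powP [gw 9] 19, []), (powP [gw 10] 31, []), (powP (gw 9 :: uw) (2 * 4 + 1), []), (uw ++ uw, []), (yw, hw.flatMap fun h => (2 * h) :: (uw ++ [2 * h + 1])), (powP [gw 11] 5, []), (powP [gw 12] 5, []), (powP [gw 13] 5, []), ([gw 11, gw 13], [gw 13, gw 11]), ([gw 12, gw 13], [gw 13, gw 12]), ([gw 12, gw 11], [gw 13, gw 11, gw 12]), ([gw 24], czz), (powP [gw 50] 3, [])]).take 1) = true := by decide +kernel

theorem sm_1 : chkR P L 0 248 ((([(powP [gw 9] 19, []), (powP [gw 10] 31, []), (powP (gw 9 :: uw) (2 * 4 + 1), []), (uw ++ uw, []), (yw, hw.flatMap fun h => (2 * h) :: (uw ++ [2 * h + 1])), (powP [gw 11] 5, []), (powP [gw 12] 5, []), (powP [gw 13] 5, []), ([gw 11, gw 13], [gw 13, gw 11]), ([gw 12, gw 13], [gw 13, gw 12]), ([gw 12, gw 11], [gw 13, gw 11, gw 12]), ([gw 24], czz), (powP [gw 50] 3, [])]).drop 1).take 1) = true := by decide +kernel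

theorem sm_2_0 : chkR P L 0 83 (((([(powP [gw 9] 19, []), (powP [gw 10] 31, []), (powP (gw 9 :: uw) (2 * 4 + 1), []), (uw ++ uw, []), (yw, hw.flatMap fun h => (2 * h) :: (uw ++ [2 * h + 1])), (powP [gw 11] 5, []), (powP [gw 12] 5, []), (powP [gw 13] 5, []), ([gw 11, gw 13], [gw 13, gw 11]), ([gw 12, gw 13], [gw 13, gw 12]), ([gw 12, gw 11], [gw 13, gw 11, gw 12]), ([gw 24], czz), (powP [gw 50] 3, [])]).drop 1).drop 1).take 1) = true := by decide +kernel

theorem sm_2_83 : chkR P L 83 83 (((([(powP [gw 9] 19, []), (powP [gw 10] 31, []), (powP (gw 9 :: uw) (2 * 4 + 1), []), (uw ++ uw, []), (yw, hw.flatMap fun h => (2 * h) :: (uw ++ [2 * h + 1])), (powP [gw 11] 5, []), (powP [gw 12] 5, []), (powP [gw 13] 5, []), ([gw 11, gw 13], [gw 13, gw 11]), ([gw 12, gw 13], [gw 13, gw 12]), ([gw 12, gw 11], [gw 13, gw 11, gw 12]), ([gw 24], czz), (powP [gw 50] 3, [])]).drop 1).drop 1).take 1) = true := by decide +kernel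

theorem sm_2_166 : chkR P L 166 82 (((([(powP [gw 9] 19, []), (powP [gw 10] 31, []), (powP (gw 9 :: uw) (2 * 4 + 1), []), (uw ++ uw, []), (yw, hw.flatMap fun h => (2 * h) :: (uw ++ [2 * h + 1])), (powP [gw 11] 5, []), (powP [gw 12] 5, []), (powP [gw 13] 5, []), ([gw 11, gw 13], [gw 13, gw 11]), ([gw 12, gw 13], [gw 13, gw 12]), ([gw 12, gw 11], [gw 13, gw 11, gw 12]), ([gw 24], czz), (powP [gw 50] 3, [])]).drop 1).drop 1).take 1) = true := by decide +kernel

theorem sm_3 : chkR P L 0 248 ((((([(powP [gw 9] 19, []), (powP [gw 10] 31, []), (powP (gw 9 :: uw) (2 * 4 + 1), []), (uw ++ uw, []), (yw, hw.flatMap fun h => (2 * h) :: (uw ++ [2 * h + 1])), (powP [gw 11] 5, []), (powP [gw 12] 5, []), (powP [gw 13] 5, []), ([gw 11, gw 13], [gw 13, gw 11]), ([gw 12, gw 13], [gw 13, gw 12]), ([gw 12, gw 11], [gw 13, gw 11, gw 12]), ([gw 24], czz), (powP [gw 50] 3, [])]).drop 1).drop 1).drop 1).take 1) = true := by decide +kernel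

theorem sm_4_0 : chkR P L 0 83 (((((([(powP [gw 9] 19, []), (powP [gw 10] 31, []), (powP (gw 9 :: uw) (2 * 4 + 1), []), (uw ++ uw, []), (yw, hw.flatMap fun h => (2 * h) :: (uw ++ [2 * h + 1])), (powP [gw 11] 5, []), (powP [gw 12] 5, []), (powP [gw 13] 5, []), ([gw 11, gw 13], [gw 13, gw 11]), ([gw 12, gw 13], [gw 13, gw 12]), ([gw 12, gw 11], [gw 13, gw 11, gw 12]), ([gw 24], czz), (powP [gw 50] 3, [])]).drop 1).drop 1).drop 1).drop 1).take 1) = true := by decide +kernel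

theorem sm_4_83 : chkR P L 83 83 (((((([(powP [gw 9] 19, []), (powP [gw 10] 31, []), (powP (gw 9 :: uw) (2 * 4 + 1), []), (uw ++ uw, []), (yw, hw.flatMap fun h => (2 * h) :: (uw ++ [2 * h + 1])), (powP [gw 11] 5, []), (powP [gw 12] 5, []), (powP [gw 13] 5, []), ([gw 11, gw 13], [gw 13, gw 11]), ([gw 12, gw 13], [gw 13, gw 12]), ([gw 12, gw 11], [gw 13, gw 11, gw 12]), ([gw 24], czz), (powP [gw 50] 3, [])]).drop 1).drop 1).drop 1).drop 1).take 1) = true := by decide +kernel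

theorem sm_4_166 : chkR P L 166 82 (((((([(powP [gw 9] 19, []), (powP [gw 10] 31, []), (powP (gw 9 :: uw) (2 * 4 + 1), []), (uw ++ uw, []), (yw, hw.flatMap fun h => (2 * h) :: (uw ++ [2 * h + 1])), (powP [gw 11] 5, []), (powP [gw 12] 5, []), (powP [gw 13] 5, []), ([gw 11, gw 13], [gw 13, gw 11]), ([gw 12, gw 13], [gw 13, gw 12]), ([gw 12, gw 11], [gw 13, gw 11, gw 12]), ([gw 24], czz), (powP [gw 50] 3, [])]).drop 1).drop 1).drop 1).drop 1).take 1) = true := by decide +kernel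

theorem sm_5 : chkR P L 0 248 ((((((([(powP [gw 9] 19, []), (powP [gw 10] 31, []), (powP (gw 9 :: uw) (2 * 4 + 1), []), (uw ++ uw, []), (yw, hw.flatMap fun h => (2 * h) :: (uw ++ [2 * h + 1])), (powP [gw 11] 5, []), (powP [gw 12] 5, []), (powP [gw 13] 5, []), ([gw 11, gw 13], [gw 13, gw 11]), ([gw 12, gw 13], [gw 13, gw 12]), ([gw 12, gw 11], [gw 13, gw 11, gw 12]), ([gw 24], czz), (powP [gw 50] 3, [])]).drop 1).drop 1).drop 1).drop 1).drop 1).take 5) = true := by decide +kernel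

theorem sm_6 : chkR P L 0 248 ((((((([(powP [gw 9] 19, []), (powP [gw 10] 31, []), (powP (gw 9 :: uw) (2 * 4 + 1), []), (uw ++ uw, []), (yw, hw.flatMap fun h => (2 * h) :: (uw ++ [2 * h + 1])), (powP [gw 11] 5, []), (powP [gw 12] 5, []), (powP [gw 13] 5, []), ([gw 11, gw 13], [gw 13, gw 11]), ([gw 12, gw 13], [gw 13, gw 12]), ([gw 12, gw 11], [gw 13, gw 11, gw 12]), ([gw 24], czz), (powP [gw 50] 3, [])]).drop 1).drop 1).drop 1).drop 1).drop 1).drop 5) = true := by decide +kernel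

theorem ng_0 : chkN P L (ng_l) = true := by decide +kernel

end Cfsg.Agent.Spor.Th
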