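import Cfsg.Agent.Lib.Spor.Th.Data
import Cfsg.Agent.Lib.Spor.ThA.Defs
import Cfsg.Agent.Lib.Spor.Th.Top

set_option autoImplicit false
set_option maxRecDepth 100000
set_option Elab.async false
set_option exponentiation.threshold 100000

namespace Cfsg.Agent.Spor.Th
open Cfsg.Agent.PG Cfsg.Agent.Spor Cfsg.Agent.Spor.ThA

theorem mcl1_72 : chkR P L 0 248 ((((((((((((((((((((((((((((((((((((((((((((((((((((((((((((((((((((((((((ThA.cl1_l).drop 2).drop 4).drop 10).drop 2).drop 2).drop 1).drop 1).drop 1).drop 1).drop 1).drop 1).drop 1).drop 1).drop 1).drop 1).drop 1).drop 1).drop 1).drop 2).drop 1).drop 1).drop 1).drop 1).drop 1).drop 1).drop 1).drop 1).drop 1).drop 1).drop 1).drop 1).drop 1).drop 2).drop 1).drop 1).drop 1).drop 1).drop 1).drop 1).drop 1).drop 1).drop 1).drop 1).drop 1).drop 1).drop 1).drop 1).drop 1).drop 1).drop 1).drop 1).drop 1).drop 1).drop 1).drop 1).drop 1).drop 1).drop 1).drop 1).drop 1).drop 1).drop 1).drop 1).drop 1).drop 1).drop 1).drop 2).drop 1).drop 1).drop 1).drop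 1).drop 1).take 2) = true := by decide +kernel

theorem mcl1_73 : chkR P L 0 248 (((((((((((((((((((((((((((((((((((((((((((((((((((((((((((((((((((((((((((ThA.cl1_l).drop 2).drop 4).drop 10).drop 2).drop 2).drop 1).drop 1).drop 1).drop 1).drop 1).drop 1).drop 1).drop 1).drop 1).drop 1).drop 1).drop 1).drop 1).drop 2).drop 1).drop 1).drop 1).drop 1).drop 1).drop 1).drop 1).drop 1).drop 1).drop 1).drop 1).drop 1).drop 1).drop 2).drop 1).drop 1).drop 1).drop 1).drop 1).drop 1).drop 1).drop 1).drop 1).drop 1).drop 1).drop 1).drop 1).drop 1).drop 1).drop 1).drop 1).drop 1).drop 1).drop 1).drop 1).drop 1).drop 1).drop 1).drop 1).drop 1).drop 1).drop 1).drop 1).drop 1).drop 1).drop 1).drop 1).drop 2).drop 1).drop 1).drop 1).drop 1).drop 1).drop 2).take 1) = true := by decide +kernel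

theorem mcl1_74 : chkR P L 0 248 ((((((((((((((((((((((((((((((((((((((((((((((((((((((((((((((((((((((((((((ThA.cl1_l).drop 2).drop 4).drop 10).drop 2).drop 2).drop 1).drop 1).drop 1).drop 1).drop 1).drop 1).drop 1).drop 1).drop 1).drop 1).drop 1).drop 1).drop 1).drop 2).drop 1).drop 1).drop 1).drop 1).drop 1).drop 1).drop 1).drop 1).drop 1).drop 1).drop 1).drop 1).drop 1).drop 2).drop 1).drop 1).drop 1).drop 1).drop 1).drop 1).drop 1).drop 1).drop 1).drop 1).drop 1).drop 1).drop 1).drop 1).drop 1).drop 1).drop 1).drop 1).drop 1).drop 1).drop 1).drop 1).drop 1).drop 1).drop 1).drop 1).drop 1).drop 1).drop 1).drop 1).drop 1).drop 1).drop 1).drop 2).drop 1).drop 1).drop 1).drop 1).drop 1).drop 2).drop 1).take 1) = true := by decide +kernel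

theorem mcl1_75 : chkR P L 0 248 ((((((((((((((((((((((((((((((((((((((((((((((((((((((((((((((((((((((((((((ThA.cl1_l).drop 2).drop 4).drop 10).drop 2).drop 2).drop 1).drop 1).drop 1).drop 1).drop 1).drop 1).drop 1).drop 1).drop 1).drop 1).drop 1).drop 1).drop 1).drop 2).drop 1).drop 1).drop 1).drop 1).drop 1).drop 1).drop 1).drop 1).drop 1).drop 1).drop 1).drop 1).drop 1).drop 2).drop 1).drop 1).drop 1).drop 1).drop 1).drop 1).drop 1).drop 1).drop 1).drop 1).drop 1).drop 1).drop 1).drop 1).drop 1).drop 1).drop 1).drop 1).drop 1).drop 1).drop 1).drop 1).drop 1).drop 1).drop 1).drop 1).drop 1).drop 1).drop 1).drop 1).drop 1).drop 1).drop 1).drop 2).drop 1).drop 1).drop 1).drop 1).drop 1).drop 2).drop 1).drop 1) = true := by decide +kernel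

theorem mcl0_0 : chkR P L 0 248 ((ThA.cl0_l).take 1) = true := by decide +kernel

theorem mcl0_1 : chkR P L 0 248 (((ThA.cl0_l).drop 1).take 1) = true := by decide +kernel

theorem mcl0_2 : chkR P L 0 248 ((((ThA.cl0_l).drop 1).drop 1).take 3) = true := by decide +kernel

theorem mcl0_3 : chkR P L 0 248 (((((ThA.cl0_l).drop 1).drop 1).drop 3).take 7) = true := by decide +kernel

theorem mcl0_4 : chkR P L 0 248 ((((((ThA.cl0_l).drop 1).drop 1).drop 3).drop 7).take 6) = true := by decide +kernel

theorem mcl0_5 : chkR P L 0 248 (((((((ThA.cl0_l).drop 1).drop 1).drop 3).drop 7).drop 6).take 1) = true := by decide +kernel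

theorem mcl0_6 : chkR P L 0 248 ((((((((ThA.cl0_l).drop 1).drop 1).drop 3).drop 7).drop 6).drop 1).take 1) = true := by decide +kernel

theorem mcl0_7 : chkR P L 0 248 (((((((((ThA.cl0_l).drop 1).drop 1).drop 3).drop 7).drop 6).drop 1).drop 1).take 1) = true := by decide +kernel

theorem mcl0_8 : chkR P L 0 248 ((((((((((ThA.cl0_l).drop 1).drop 1).drop 3).drop 7).drop 6).drop 1).drop 1).drop 1).take 1) = true := by decide +kernel

theorem mcl0_9 : chkR P L 0 248 (((((((((((ThA.cl0_l).drop 1).drop 1).drop 3).drop 7).drop 6).drop 1).drop 1).drop 1).drop 1).take 1) = true := by decide +kernel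

theorem mcl0_10 : chkR P L 0 248 ((((((((((((ThA.cl0_l).drop 1).drop 1).drop 3).drop 7).drop 6).drop 1).drop 1).drop 1).drop 1).drop 1).take 1) = true := by decide +kernel

theorem mcl0_11 : chkR P L 0 248 (((((((((((((ThA.cl0_l).drop 1).drop 1).drop 3).drop 7).drop 6).drop 1).drop 1).drop 1).drop 1).drop 1).drop 1).take 1) = true := by decide +kernel

theorem mcl0_12 : chkR P L 0 248 ((((((((((((((ThA.cl0_l).drop 1).drop 1).drop 3).drop 7).drop 6).drop 1).drop 1).drop 1).drop 1).drop 1).drop 1).drop 1).take 1) = true := by decide +kernel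

theorem mcl0_13 : chkR P L 0 248 (((((((((((((((ThA.cl0_l).drop 1).drop 1).drop 3).drop 7).drop 6).drop 1).drop 1).drop 1).drop 1).drop 1).drop 1).drop 1).drop 1).take 1) = true := by decide +kernel

theorem mcl0_14 : chkR P L 0 248 ((((((((((((((((ThA.cl0_l).drop 1).drop 1).drop 3).drop 7).drop 6).drop 1).drop 1).drop 1).drop 1).drop 1).drop 1).drop 1).drop 1).drop 1).take 1) = true := by decide +kernel

theorem mcl0_15 : chkR P L 0 248 (((((((((((((((((ThA.cl0_l).drop 1).drop 1).drop 3).drop 7).drop 6).drop 1).drop 1).drop 1).drop 1).drop 1).drop 1).drop 1).drop 1).drop 1).drop 1).take 1) = true := by decide +kernel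

theorem mcl0_16 : chkR P L 0 248 ((((((((((((((((((ThA.cl0_l).drop 1).drop 1).drop 3).drop 7).drop 6).drop 1).drop 1).drop 1).drop 1).drop 1).drop 1).drop 1).drop 1).drop 1).drop 1).drop 1).take 1) = true := by decide +kernel

theorem mcl0_17 : chkR P L 0 248 ((((((((((((((((((ThA.cl0_l).drop 1).drop 1).drop 3).drop 7).drop 6).drop 1).drop 1).drop 1).drop 1).drop 1).drop 1).drop 1).drop 1).drop 1).drop 1).drop 1).drop 1) = true := by decide +kernel

theorem clT_0 : chkR P L 0 248 ((dcClaims 64 66 cjT repsT).take 2) = true := by decide +kernel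

theorem clT_1 : chkR P L 0 248 (((dcClaims 64 66 cjT repsT).drop 2).take 2) = true := by decide +kernel

theorem clT_2 : chkR P L 0 248 ((((dcClaims 64 66 cjT repsT).drop 2).drop 2).take 2) = true := by decide +kernel

theorem clT_3 : chkR P L 0 248 (((((dcClaims 64 66 cjT repsT).drop 2).drop 2).drop 2).take 2) = true := by decide +kernel

theorem clT_4 : chkR P L 0 248 ((((((dcClaims 64 66 cjT repsT).drop 2).drop 2).drop 2).drop 2).take 12) = true := by decide +kernel

end Cfsg.Agent.Spor.Th
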