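import Cfsg.Agent.Lib.Spor.Th.Data
import Cfsg.Agent.Lib.Spor.ThA.Defs
import Cfsg.Agent.Lib.Spor.Th.Top
import Cfsg.Agent.Lib.Spor.Th.C0
import Cfsg.Agent.Lib.Spor.Th.C1
import Cfsg.Agent.Lib.Spor.Th.C2
import Cfsg.Agent.Lib.Spor.Th.C3
import Cfsg.Agent.Lib.Spor.Th.C4
import Cfsg.Agent.Lib.Spor.Th.C5
import Cfsg.Agent.Lib.Spor.Th.C6
import Cfsg.Agent.Lib.Spor.Th.C7
import Cfsg.Agent.Lib.Spor.Th.C8
import Cfsg.Agent.Lib.Spor.Th.C9
import Cfsg.Agent.Lib.Spor.Th.C10
import Cfsg.Agent.Lib.Spor.Th.C11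
import Cfsg.Agent.Lib.Spor.Th.C12
import Cfsg.Agent.Lib.Spor.Th.C13
import Cfsg.Agent.Lib.Spor.Th.C14
import Cfsg.Agent.Lib.Spor.Th.C15
import Cfsg.Agent.Lib.Spor.Th.C16
import Cfsg.Agent.Lib.Spor.Th.C17
import Cfsg.Agent.Lib.Spor.Th.C18
import Cfsg.Agent.Lib.Spor.Th.C19
import Cfsg.Agent.Lib.Spor.Th.C20
import Cfsg.Agent.Lib.Spor.Th.C21
import Cfsg.Agent.Lib.Spor.Th.C22
import Cfsg.Agent.Lib.Spor.Th.C23
import Cfsg.Agent.Lib.Spor.ThA.Main

set_option autoImplicit false
set_option maxRecDepth 100000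
set_option Elab.async false
set_option exponentiation.threshold 100000

namespace Cfsg.Agent.Spor.Th
open Cfsg.Agent.PG Cfsg.Agent.Spor Cfsg.Agent.Spor.ThA

noncomputable abbrev γ : ℕ → GL (Fin P.n) (ZMod P.p) := gam P L

theorem γ_of_le {j : ℕ} (h : L.length ≤ j) : γ j = 1 := gam_of_le P h

theorem hγ : ∀ j, ThA.A.length ≤ j → γ j = 1 := fun j hj => γ_of_le (by rw [ThA.hlen] at hj; rw [lenL]; exact hj)

theorem lift9 : Lift ThA.A γ 75 := lift_last fun j hj => hγ j (by rw [ThA.hlen]; exact hj)

theorem mcl8 : ∀ c ∈ ThA.cl8_l, HoldsG γ c :=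
  (chkM_spec good mcl8_0)

theorem lift8 : Lift ThA.A γ 74 :=
  lift_plain ThA.hA hγ lift9 ThA.ok8 ThA.cl8 mcl8

theorem mcl7 : ∀ c ∈ ThA.cl7_l, HoldsG γ c :=
  (chkM_spec good mcl7_0)

theorem lift7 : Lift ThA.A γ 73 :=
  lift_plain ThA.hA hγ lift8 ThA.ok7 ThA.cl7 mcl7

theorem mcl6 : ∀ c ∈ ThA.cl6_l, HoldsG γ c :=
  (chkM_spec good mcl6_0)

theorem lift6 : Lift ThA.A γ 72 :=
  lift_plain ThA.hA hγ lift7 ThA.ok6 ThA.cl6 mcl6

theorem mcl5 : ∀ c ∈ ThA.cl5_l, HoldsG γ c :=
  (chkM_spec good mcl5_0)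

theorem lift5 : Lift ThA.A γ 71 :=
  lift_plain ThA.hA hγ lift6 ThA.ok5 ThA.cl5 mcl5

theorem mcl4 : ∀ c ∈ ThA.cl4_l, HoldsG γ c :=
  (forall_take_drop 9 (chkM_spec good mcl4_0)
  (chkM_spec good mcl4_1))

theorem lift4 : Lift ThA.A γ 70 :=
  lift_plain ThA.hA hγ lift5 ThA.ok4 ThA.cl4 mcl4

theorem mcl3 : ∀ c ∈ ThA.cl3_l, HoldsG γ c :=
  (forall_take_drop 10 (chkM_spec good mcl3_0)
  (forall_take_drop 5 (chkM_spec good mcl3_1)
  (forall_take_drop 5 (chkM_spec good mcl3_2)
  (forall_take_drop 4 (chkM_spec good mcl3_3)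
  (forall_take_drop 3 (chkM_spec good mcl3_4)
  (chkM_spec good mcl3_5))))))

theorem lift3 : Lift ThA.A γ 68 :=
  lift_plain ThA.hA hγ lift4 ThA.ok3 ThA.cl3 mcl3

theorem mcl2 : ∀ c ∈ ThA.cl2_l, HoldsG γ c :=
  (forall_take_drop 5 (chkM_spec good mcl2_0)
  (forall_take_drop 9 (chkM_spec good mcl2_1)
  (forall_take_drop 2 (chkM_spec good mcl2_2)
  (forall_take_drop 3 (chkM_spec good mcl2_3)
  (forall_take_drop 3 (chkM_spec good mcl2_4)
  (forall_take_drop 1 (chkM_spec good mcl2_5)
  (forall_take_drop 2 (chkM_spec good mcl2_6)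
  (forall_take_drop 3 (chkM_spec good mcl2_7)
  (forall_take_drop 2 (chkM_spec good mcl2_8)
  (forall_take_drop 2 (chkM_spec good mcl2_9)
  (forall_take_drop 1 (chkM_spec good mcl2_10)
  (forall_take_drop 2 (chkM_spec good mcl2_11)
  (forall_take_drop 1 (chkM_spec good mcl2_12)
  (forall_take_drop 2 (chkM_spec good mcl2_13)
  (forall_take_drop 1 (chkM_spec good mcl2_14)
  (forall_take_drop 1 (chkM_spec good mcl2_15)
  (forall_take_drop 1 (chkM_spec good mcl2_16)
  (forall_take_drop 2 (chkM_spec good mcl2_17)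
  (forall_take_drop 3 (chkM_spec good mcl2_18)
  (forall_take_drop 1 (chkM_spec good mcl2_19)
  (forall_take_drop 2 (chkM_spec good mcl2_20)
  (forall_take_drop 2 (chkM_spec good mcl2_21)
  (forall_take_drop 2 (chkM_spec good mcl2_22)
  (forall_take_drop 2 (chkM_spec good mcl2_23)
  (forall_take_drop 1 (chkM_spec good mcl2_24)
  (forall_take_drop 1 (chkM_spec good mcl2_25)
  (forall_take_drop 2 (chkM_spec good mcl2_26)
  (forall_take_drop 1 (chkM_spec good mcl2_27)
  (forall_take_drop 1 (chkM_spec good mcl2_28)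
  (forall_take_drop 1 (chkM_spec good mcl2_29)
  (forall_take_drop 1 (chkM_spec good mcl2_30)
  (chkM_spec good mcl2_31))))))))))))))))))))))))))))))))

theorem lift2 : Lift ThA.A γ 67 :=
  lift_dc ThA.hA hγ lift3 ThA.stab3 ThA.ok2 ThA.cl2 mcl2

theorem mcl1 : ∀ c ∈ ThA.cl1_l, HoldsG γ c :=
  (forall_take_drop 2 (chkM_spec good mcl1_0)
  (forall_take_drop 4 (chkM_spec good mcl1_1)
  (forall_take_drop 10 (chkM_spec good mcl1_2)
  (forall_take_drop 2 (chkM_spec good mcl1_3)
  (forall_take_drop 2 (chkM_spec good mcl1_4)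
  (forall_take_drop 1 (chkM_spec good mcl1_5)
  (forall_take_drop 1 (chkM_spec good mcl1_6)
  (forall_take_drop 1 (chkM_spec good mcl1_7)
  (forall_take_drop 1 (chkM_spec good mcl1_8)
  (forall_take_drop 1 (chkM_spec good mcl1_9)
  (forall_take_drop 1 (chkM_spec good mcl1_10)
  (forall_take_drop 1 (chkM_spec good mcl1_11)
  (forall_take_drop 1 (chkM_spec good mcl1_12)
  (forall_take_drop 1 (chkM_spec good mcl1_13)
  (forall_take_drop 1 (chkM_spec good mcl1_14)
  (forall_take_drop 1 (chkM_spec good mcl1_15)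
  (forall_take_drop 1 (chkM_spec good mcl1_16)
  (forall_take_drop 1 (chkM_spec good mcl1_17)
  (forall_take_drop 2 (chkM_spec good mcl1_18)
  (forall_take_drop 1 (chkM_spec good mcl1_19)
  (forall_take_drop 1 (chkM_spec good mcl1_20)
  (forall_take_drop 1 (chkM_spec good mcl1_21)
  (forall_take_drop 1 (chkM_spec good mcl1_22)
  (forall_take_drop 1 (chkM_spec good mcl1_23)
  (forall_take_drop 1 (chkM_spec good mcl1_24)
  (forall_take_drop 1 (chkM_spec good mcl1_25)
  (forall_take_drop 1 (chkM_spec good mcl1_26)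
  (forall_take_drop 1 (chkM_spec good mcl1_27)
  (forall_take_drop 1 (chkM_spec good mcl1_28)
  (forall_take_drop 1 (chkM_spec good mcl1_29)
  (forall_take_drop 1 (chkM_spec good mcl1_30)
  (forall_take_drop 1 (chkM_spec good mcl1_31)
  (forall_take_drop 2 (chkM_spec good mcl1_32)
  (forall_take_drop 1 (chkM_spec good mcl1_33)
  (forall_take_drop 1 (chkM_spec good mcl1_34)
  (forall_take_drop 1 (chkM_spec good mcl1_35)
  (forall_take_drop 1 (chkM_spec good mcl1_36)
  (forall_take_drop 1 (chkM_spec good mcl1_37)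
  (forall_take_drop 1 (chkM_spec good mcl1_38)
  (forall_take_drop 1 (chkM_spec good mcl1_39)
  (forall_take_drop 1 (chkM_spec good mcl1_40)
  (forall_take_drop 1 (chkM_spec good mcl1_41)
  (forall_take_drop 1 (chkM_spec good mcl1_42)
  (forall_take_drop 1 (chkM_spec good mcl1_43)
  (forall_take_drop 1 (chkM_spec good mcl1_44)
  (forall_take_drop 1 (chkM_spec good mcl1_45)
  (forall_take_drop 1 (chkM_spec good mcl1_46)
  (forall_take_drop 1 (chkM_spec good mcl1_47)
  (forall_take_drop 1 (chkM_spec good mcl1_48)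
  (forall_take_drop 1 (chkM_spec good mcl1_49)
  (forall_take_drop 1 (chkM_spec good mcl1_50)
  (forall_take_drop 1 (chkM_spec good mcl1_51)
  (forall_take_drop 1 (chkM_spec good mcl1_52)
  (forall_take_drop 1 (chkM_spec good mcl1_53)
  (forall_take_drop 1 (chkM_spec good mcl1_54)
  (forall_take_drop 1 (chkM_spec good mcl1_55)
  (forall_take_drop 1 (chkM_spec good mcl1_56)
  (forall_take_drop 1 (chkM_spec good mcl1_57)
  (forall_take_drop 1 (chkM_spec good mcl1_58)
  (forall_take_drop 1 (chkM_spec good mcl1_59)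
  (forall_take_drop 1 (chkM_spec good mcl1_60)
  (forall_take_drop 1 (chkM_spec good mcl1_61)
  (forall_take_drop 1 (chkM_spec good mcl1_62)
  (forall_take_drop 1 (chkM_spec good mcl1_63)
  (forall_take_drop 1 (chkM_spec good mcl1_64)
  (forall_take_drop 1 (chkM_spec good mcl1_65)
  (forall_take_drop 2 (chkM_spec good mcl1_66)
  (forall_take_drop 1 (chkM_spec good mcl1_67)
  (forall_take_drop 1 (chkM_spec good mcl1_68)
  (forall_take_drop 1 (chkM_spec good mcl1_69)
  (forall_take_drop 1 (chkM_spec good mcl1_70)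
  (forall_take_drop 1 (chkM_spec good mcl1_71)
  (forall_take_drop 2 (chkM_spec good mcl1_72)
  (forall_take_drop 1 (chkM_spec good mcl1_73)
  (forall_take_drop 1 (chkM_spec good mcl1_74)
  (chkM_spec good mcl1_75))))))))))))))))))))))))))))))))))))))))))))))))))))))))))))))))))))))))))))

theorem lift1 : Lift ThA.A γ 66 :=
  lift_dc ThA.hA hγ lift2 ThA.stab2 ThA.ok1 ThA.cl1 mcl1

theorem mcl0 : ∀ c ∈ ThA.cl0_l, HoldsG γ c :=
  (forall_take_drop 1 (chkM_spec good mcl0_0)
  (forall_take_drop 1 (chkM_spec good mcl0_1)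
  (forall_take_drop 3 (chkM_spec good mcl0_2)
  (forall_take_drop 7 (chkM_spec good mcl0_3)
  (forall_take_drop 6 (chkM_spec good mcl0_4)
  (forall_take_drop 1 (chkM_spec good mcl0_5)
  (forall_take_drop 1 (chkM_spec good mcl0_6)
  (forall_take_drop 1 (chkM_spec good mcl0_7)
  (forall_take_drop 1 (chkM_spec good mcl0_8)
  (forall_take_drop 1 (chkM_spec good mcl0_9)
  (forall_take_drop 1 (chkM_spec good mcl0_10)
  (forall_take_drop 1 (chkM_spec good mcl0_11)
  (forall_take_drop 1 (chkM_spec good mcl0_12)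
  (forall_take_drop 1 (chkM_spec good mcl0_13)
  (forall_take_drop 1 (chkM_spec good mcl0_14)
  (forall_take_drop 1 (chkM_spec good mcl0_15)
  (forall_take_drop 1 (chkM_spec good mcl0_16)
  (chkM_spec good mcl0_17))))))))))))))))))

theorem lift0 : Lift ThA.A γ 65 :=
  lift_dc ThA.hA hγ lift1 ThA.stab1 ThA.ok0 ThA.cl0 mcl0

theorem clT : ∀ c ∈ dcClaims 64 66 cjT repsT, HoldsG γ c :=
  (forall_take_drop 2 (chkM_spec good clT_0)
  (forall_take_drop 2 (chkM_spec good clT_1)
  (forall_take_drop 2 (chkM_spec good clT_2)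
  (forall_take_drop 2 (chkM_spec good clT_3)
  (forall_take_drop 12 (chkM_spec good clT_4)
  (forall_take_drop 1 (chkM_spec good clT_5)
  (forall_take_drop 1 (chkM_spec good clT_6)
  (forall_take_drop 2 (chkM_spec good clT_7)
  (forall_take_drop 1 (chkM_spec good clT_8)
  (forall_take_drop 2 (chkM_spec good clT_9)
  (forall_take_drop 1 (chkM_spec good clT_10)
  (forall_take_drop 1 (chkM_spec good clT_11)
  (forall_take_drop 1 (chkM_spec good clT_12)
  (forall_take_drop 1 (chkM_spec good clT_13)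
  (forall_take_drop 2 (chkM_spec good clT_14)
  (forall_take_drop 1 (chkM_spec good clT_15)
  (forall_take_drop 1 (chkM_spec good clT_16)
  (forall_take_drop 1 (chkM_spec good clT_17)
  (forall_take_drop 1 (chkM_spec good clT_18)
  (forall_take_drop 2 (chkM_spec good clT_19)
  (forall_take_drop 2 (chkM_spec good clT_20)
  (forall_take_drop 1 (chkM_spec good clT_21)
  (forall_take_drop 1 (chkM_spec good clT_22)
  (forall_take_drop 1 (chkM_spec good clT_23)
  (forall_take_drop 1 (chkM_spec good clT_24)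
  (forall_take_drop 1 (chkM_spec good clT_25)
  (forall_take_drop 1 (chkM_spec good clT_26)
  (forall_take_drop 1 (chkM_spec good clT_27)
  (forall_take_drop 1 (chkM_spec good clT_28)
  (forall_take_drop 1 (chkM_spec good clT_29)
  (forall_take_drop 1 (chkM_spec good clT_30)
  (forall_take_drop 1 (chkM_spec good clT_31)
  (forall_take_drop 1 (chkM_spec good clT_32)
  (forall_take_drop 1 (chkM_spec good clT_33)
  (forall_take_drop 1 (chkM_spec good clT_34)
  (forall_take_drop 1 (chkM_spec good clT_35)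
  (forall_take_drop 2 (chkM_spec good clT_36)
  (forall_take_drop 1 (chkM_spec good clT_37)
  (forall_take_drop 1 (chkM_spec good clT_38)
  (forall_take_drop 1 (chkM_spec good clT_39)
  (forall_take_drop 1 (chkM_spec good clT_40)
  (forall_take_drop 1 (chkM_spec good clT_41)
  (forall_take_drop 1 (chkM_spec good clT_42)
  (forall_take_drop 1 (chkM_spec good clT_43)
  (forall_take_drop 1 (chkM_spec good clT_44)
  (forall_take_drop 1 (chkM_spec good clT_45)
  (forall_take_drop 1 (chkM_spec good clT_46)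
  (forall_take_drop 1 (chkM_spec good clT_47)
  (forall_take_drop 1 (chkM_spec good clT_48)
  (forall_take_drop 1 (chkM_spec good clT_49)
  (forall_take_drop 1 (chkM_spec good clT_50)
  (forall_take_drop 1 (chkM_spec good clT_51)
  (forall_take_drop 1 (chkM_spec good clT_52)
  (forall_take_drop 1 (chkM_spec good clT_53)
  (forall_take_drop 1 (chkM_spec good clT_54)
  (forall_take_drop 1 (chkM_spec good clT_55)
  (forall_take_drop 1 (chkM_spec good clT_56)
  (forall_take_drop 1 (chkM_spec good clT_57)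
  (forall_take_drop 1 (chkM_spec good clT_58)
  (forall_take_drop 1 (chkM_spec good clT_59)
  (forall_take_drop 1 (chkM_spec good clT_60)
  (forall_take_drop 2 (chkM_spec good clT_61)
  (forall_take_drop 1 (chkM_spec good clT_62)
  (forall_take_drop 1 (chkM_spec good clT_63)
  (forall_take_drop 1 (chkM_spec good clT_64)
  (forall_take_drop 1 (chkM_spec good clT_65)
  (forall_take_drop 1 (chkM_spec good clT_66)
  (forall_take_drop 1 (chkM_spec good clT_67)
  (forall_take_drop 1 (chkM_spec good clT_68)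
  (forall_take_drop 1 (chkM_spec good clT_69)
  (forall_take_drop 1 (chkM_spec good clT_70)
  (forall_take_drop 1 (chkM_spec good clT_71)
  (forall_take_drop 1 (chkM_spec good clT_72)
  (forall_take_drop 1 (chkM_spec good clT_73)
  (forall_take_drop 1 (chkM_spec good clT_74)
  (forall_take_drop 1 (chkM_spec good clT_75)
  (forall_take_drop 1 (chkM_spec good clT_76)
  (forall_take_drop 1 (chkM_spec good clT_77)
  (forall_take_drop 1 (chkM_spec good clT_78)
  (forall_take_drop 1 (chkM_spec good clT_79)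
  (forall_take_drop 1 (chkM_spec good clT_80)
  (forall_take_drop 1 (chkM_spec good clT_81)
  (forall_take_drop 1 (chkM_spec good clT_82)
  (forall_take_drop 1 (chkM_spec good clT_83)
  (forall_take_drop 1 (chkM_spec good clT_84)
  (forall_take_drop 1 (chkM_spec good clT_85)
  (forall_take_drop 1 (chkM_spec good clT_86)
  (forall_take_drop 1 (chkM_spec good clT_87)
  (forall_take_drop 1 (chkM_spec good clT_88)
  (forall_take_drop 1 (chkM_spec good clT_89)
  (forall_take_drop 1 (chkM_spec good clT_90)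
  (forall_take_drop 1 (chkM_spec good clT_91)
  (forall_take_drop 1 (chkM_spec good clT_92)
  (forall_take_drop 1 (chkM_spec good clT_93)
  (forall_take_drop 1 (chkM_spec good clT_94)
  (forall_take_drop 1 (chkM_spec good clT_95)
  (forall_take_drop 1 (chkM_spec good clT_96)
  (forall_take_drop 1 (chkM_spec good clT_97)
  (forall_take_drop 1 (chkM_spec good clT_98)
  (forall_take_drop 1 (chkM_spec good clT_99)
  (forall_take_drop 1 (chkM_spec good clT_100)
  (forall_take_drop 1 (chkM_spec good clT_101)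
  (forall_take_drop 1 (chkM_spec good clT_102)
  (forall_take_drop 1 (chkM_spec good clT_103)
  (forall_take_drop 1 (chkM_spec good clT_104)
  (forall_take_drop 1 (chkM_spec good clT_105)
  (forall_take_drop 1 (chkM_spec good clT_106)
  (forall_take_drop 1 (chkM_spec good clT_107)
  (forall_take_drop 1 (chkM_spec good clT_108)
  (forall_take_drop 1 (chkM_spec good clT_109)
  (forall_take_drop 1 (chkM_spec good clT_110)
  (forall_take_drop 1 (chkM_spec good clT_111)
  (forall_take_drop 1 (chkM_spec good clT_112)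
  (forall_take_drop 1 (chkM_spec good clT_113)
  (forall_take_drop 1 (chkM_spec good clT_114)
  (forall_take_drop 1 (chkM_spec good clT_115)
  (forall_take_drop 1 (chkM_spec good clT_116)
  (forall_take_drop 1 (chkM_spec good clT_117)
  (forall_take_drop 1 (chkM_spec good clT_118)
  (forall_take_drop 1 (chkM_spec good clT_119)
  (forall_take_drop 1 (chkM_spec good clT_120)
  (forall_take_drop 1 (chkM_spec good clT_121)
  (forall_take_drop 1 (chkM_spec good clT_122)
  (forall_take_drop 1 (chkM_spec good clT_123)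
  (forall_take_drop 1 (chkM_spec good clT_124)
  (forall_take_drop 1 (chkM_spec good clT_125)
  (forall_take_drop 1 (chkM_spec good clT_126)
  (forall_take_drop 1 (chkM_spec good clT_127)
  (forall_take_drop 1 (chkM_spec good clT_128)
  (forall_take_drop 1 (chkM_spec good clT_129)
  (forall_take_drop 1 (chkM_spec good clT_130)
  (forall_take_drop 1 (chkM_spec good clT_131)
  (forall_take_drop 1 (chkM_spec good clT_132)
  (forall_take_drop 1 (chkM_spec good clT_133)
  (forall_take_drop 1 (chkM_spec good clT_134)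
  (forall_take_drop 1 (chkM_spec good clT_135)
  (forall_take_drop 1 (chkM_spec good clT_136)
  (forall_take_drop 1 (chkM_spec good clT_137)
  (forall_take_drop 1 (chkM_spec good clT_138)
  (forall_take_drop 1 (chkM_spec good clT_139)
  (forall_take_drop 1 (chkM_spec good clT_140)
  (forall_take_drop 1 (chkM_spec good clT_141)
  (forall_take_drop 1 (chkM_spec good clT_142)
  (forall_take_drop 1 (chkM_spec good clT_143)
  (forall_take_drop 1 (chkM_spec good clT_144)
  (forall_take_drop 1 (chkM_spec good clT_145)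
  (forall_take_drop 1 (chkM_spec good clT_146)
  (forall_take_drop 1 (chkM_spec good clT_147)
  (forall_take_drop 1 (chkM_spec good clT_148)
  (forall_take_drop 1 (chkM_spec good clT_149)
  (forall_take_drop 1 (chkM_spec good clT_150)
  (forall_take_drop 1 (chkM_spec good clT_151)
  (forall_take_drop 1 (chkM_spec good clT_152)
  (forall_take_drop 1 (chkM_spec good clT_153)
  (forall_take_drop 1 (chkM_spec good clT_154)
  (forall_take_drop 1 (chkM_spec good clT_155)
  (forall_take_drop 1 (chkM_spec good clT_156)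
  (forall_take_drop 1 (chkM_spec good clT_157)
  (forall_take_drop 1 (chkM_spec good clT_158)
  (forall_take_drop 1 (chkM_spec good clT_159)
  (forall_take_drop 1 (chkM_spec good clT_160)
  (forall_take_drop 1 (chkM_spec good clT_161)
  (forall_take_drop 1 (chkM_spec good clT_162)
  (forall_take_drop 1 (chkM_spec good clT_163)
  (forall_take_drop 1 (chkM_spec good clT_164)
  (forall_take_drop 1 (chkM_spec good clT_165)
  (forall_take_drop 1 (chkM_spec good clT_166)
  (forall_take_drop 1 (chkM_spec good clT_167)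
  (forall_take_drop 1 (chkM_spec good clT_168)
  (forall_take_drop 1 (chkM_spec good clT_169)
  (forall_take_drop 1 (chkM_spec good clT_170)
  (forall_take_drop 1 (chkM_spec good clT_171)
  (forall_take_drop 1 (chkM_spec good clT_172)
  (forall_take_drop 1 (chkM_spec good clT_173)
  (forall_take_drop 1 (chkM_spec good clT_174)
  (forall_take_drop 1 (chkM_spec good clT_175)
  (forall_take_drop 1 (chkM_spec good clT_176)
  (forall_take_drop 1 (chkM_spec good clT_177)
  (forall_take_drop 1 (chkM_spec good clT_178)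
  (forall_take_drop 1 (chkM_spec good clT_179)
  (forall_take_drop 1 (chkM_spec good clT_180)
  (forall_take_drop 1 (chkM_spec good clT_181)
  (forall_take_drop 1 (chkM_spec good clT_182)
  (forall_take_drop 1 (chkM_spec good clT_183)
  (forall_take_drop 1 (chkM_spec good clT_184)
  (forall_take_drop 1 (chkM_spec good clT_185)
  (forall_take_drop 1 (chkM_spec good clT_186)
  (forall_take_drop 1 (chkM_spec good clT_187)
  (forall_take_drop 1 (chkM_spec good clT_188)
  (forall_take_drop 1 (chkM_spec good clT_189)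
  (forall_take_drop 1 (chkM_spec good clT_190)
  (forall_take_drop 1 (chkM_spec good clT_191)
  (forall_take_drop 1 (chkM_spec good clT_192)
  (forall_take_drop 1 (chkM_spec good clT_193)
  (forall_take_drop 1 (chkM_spec good clT_194)
  (forall_take_drop 1 (chkM_spec good clT_195)
  (forall_take_drop 1 (chkM_spec good clT_196)
  (forall_take_drop 1 (chkM_spec good clT_197)
  (forall_take_drop 1 (chkM_spec good clT_198)
  (forall_take_drop 1 (chkM_spec good clT_199)
  (forall_take_drop 1 (chkM_spec good clT_200)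
  (forall_take_drop 1 (chkM_spec good clT_201)
  (forall_take_drop 1 (chkM_spec good clT_202)
  (forall_take_drop 1 (chkM_spec good clT_203)
  (forall_take_drop 1 (chkM_spec good clT_204)
  (forall_take_drop 1 (chkM_spec good clT_205)
  (forall_take_drop 1 (chkM_spec good clT_206)
  (forall_take_drop 1 (chkM_spec good clT_207)
  (forall_take_drop 1 (chkM_spec good clT_208)
  (forall_take_drop 1 (chkM_spec good clT_209)
  (forall_take_drop 1 (chkM_spec good clT_210)
  (forall_take_drop 1 (chkM_spec good clT_211)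
  (forall_take_drop 1 (chkM_spec good clT_212)
  (forall_take_drop 1 (chkM_spec good clT_213)
  (forall_take_drop 1 (chkM_spec good clT_214)
  (forall_take_drop 1 (chkM_spec good clT_215)
  (forall_take_drop 1 (chkM_spec good clT_216)
  (forall_take_drop 1 (chkM_spec good clT_217)
  (forall_take_drop 1 (chkM_spec good clT_218)
  (forall_take_drop 1 (chkM_spec good clT_219)
  (forall_take_drop 1 (chkM_spec good clT_220)
  (forall_take_drop 1 (chkM_spec good clT_221)
  (forall_take_drop 1 (chkM_spec good clT_222)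
  (forall_take_drop 1 (chkM_spec good clT_223)
  (forall_take_drop 1 (chkM_spec good clT_224)
  (forall_take_drop 1 (chkM_spec good clT_225)
  (forall_take_drop 1 (chkM_spec good clT_226)
  (forall_take_drop 1 (chkM_spec good clT_227)
  (forall_take_drop 1 (chkM_spec good clT_228)
  (forall_take_drop 1 (chkM_spec good clT_229)
  (forall_take_drop 1 (chkM_spec good clT_230)
  (forall_take_drop 1 (chkM_spec good clT_231)
  (forall_take_drop 1 (chkM_spec good clT_232)
  (forall_take_drop 1 (chkM_spec good clT_233)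
  (forall_take_drop 1 (chkM_spec good clT_234)
  (forall_take_drop 1 (chkM_spec good clT_235)
  (forall_take_drop 1 (chkM_spec good clT_236)
  (forall_take_drop 1 (chkM_spec good clT_237)
  (forall_take_drop 1 (chkM_spec good clT_238)
  (forall_take_drop 1 (chkM_spec good clT_239)
  (forall_take_drop 1 (chkM_spec good clT_240)
  (forall_take_drop 1 (chkM_spec good clT_241)
  (forall_take_drop 1 (chkM_spec good clT_242)
  (forall_take_drop 1 (chkM_spec good clT_243)
  (forall_take_drop 1 (chkM_spec good clT_244)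
  (forall_take_drop 1 (chkM_spec good clT_245)
  (forall_take_drop 1 (chkM_spec good clT_246)
  (forall_take_drop 1 (chkM_spec good clT_247)
  (forall_take_drop 1 (chkM_spec good clT_248)
  (forall_take_drop 1 (chkM_spec good clT_249)
  (forall_take_drop 1 (chkM_spec good clT_250)
  (forall_take_drop 1 (chkM_spec good clT_251)
  (forall_take_drop 1 (chkM_spec good clT_252)
  (forall_take_drop 1 (chkM_spec good clT_253)
  (forall_take_drop 1 (chkM_spec good clT_254)
  (forall_take_drop 1 (chkM_spec good clT_255)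
  (forall_take_drop 1 (chkM_spec good clT_256)
  (forall_take_drop 1 (chkM_spec good clT_257)
  (forall_take_drop 1 (chkM_spec good clT_258)
  (forall_take_drop 1 (chkM_spec good clT_259)
  (forall_take_drop 1 (chkM_spec good clT_260)
  (forall_take_drop 1 (chkM_spec good clT_261)
  (forall_take_drop 1 (chkM_spec good clT_262)
  (forall_take_drop 1 (chkM_spec good clT_263)
  (forall_take_drop 1 (chkM_spec good clT_264)
  (forall_take_drop 1 (chkM_spec good clT_265)
  (forall_take_drop 1 (chkM_spec good clT_266)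
  (forall_take_drop 1 (chkM_spec good clT_267)
  (forall_take_drop 1 (chkM_spec good clT_268)
  (forall_take_drop 1 (chkM_spec good clT_269)
  (forall_take_drop 1 (chkM_spec good clT_270)
  (forall_take_drop 1 (chkM_spec good clT_271)
  (forall_take_drop 1 (chkM_spec good clT_272)
  (forall_take_drop 1 (chkM_spec good clT_273)
  (forall_take_drop 1 (chkM_spec good clT_274)
  (chkM_spec good clT_275))))))))))))))))))))))))))))))))))))))))))))))))))))))))))))))))))))))))))))))))))))))))))))))))))))))))))))))))))))))))))))))))))))))))))))))))))))))))))))))))))))))))))))))))))))))))))))))))))))))))))))))))))))))))))))))))))))))))))))))))))))))))))))))))))))))))))))))))))))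

theorem mxc : ∀ c ∈ mxClaims mxT, HoldsG γ c :=
  (forall_take_drop 1 (chkM_spec good mxc_0)
  (forall_take_drop 1 (chkM_spec good mxc_1)
  (forall_take_drop 1 (chkM_spec good mxc_2)
  (forall_take_drop 1 (chkM_spec good mxc_3)
  (forall_take_drop 1 (chkM_spec good mxc_4)
  (forall_take_drop 1 (chkM_spec good mxc_5)
  (forall_take_drop 1 (chkM_spec good mxc_6)
  (forall_take_drop 1 (chkM_spec good mxc_7)
  (chkM_spec good mxc_8)))))))))

theorem gn : ∀ c ∈ genClaims gn_g, HoldsG γ c :=
  (forall_take_drop 5 (chkM_spec good gn_0)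
  (forall_take_drop 4 (chkM_spec good gn_1)
  (forall_take_drop 1 (chkM_spec good gn_2)
  (forall_take_drop 2 (chkM_spec good gn_3)
  (forall_take_drop 1 (chkM_spec good gn_4)
  (forall_take_drop 1 (chkM_spec good gn_5)
  (forall_take_drop 1 (chkM_spec good gn_6)
  (forall_take_drop 1 (chkM_spec good gn_7)
  (forall_take_drop 1 (chkM_spec good gn_8)
  (forall_take_drop 1 (chkM_spec good gn_9)
  (forall_take_drop 1 (chkM_spec good gn_10)
  (forall_take_drop 1 (chkM_spec good gn_11)
  (forall_take_drop 1 (chkM_spec good gn_12)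
  (forall_take_drop 1 (chkM_spec good gn_13)
  (forall_take_drop 1 (chkM_spec good gn_14)
  (forall_take_drop 2 (chkM_spec good gn_15)
  (forall_take_drop 2 (chkM_spec good gn_16)
  (forall_take_drop 2 (chkM_spec good gn_17)
  (forall_take_drop 2 (chkM_spec good gn_18)
  (forall_take_drop 2 (chkM_spec good gn_19)
  (forall_take_drop 2 (chkM_spec good gn_20)
  (forall_take_drop 3 (chkM_spec good gn_21)
  (forall_take_drop 2 (chkM_spec good gn_22)
  (forall_take_drop 1 (chkM_spec good gn_23)
  (forall_take_drop 1 (chkM_spec good gn_24)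
  (forall_take_drop 1 (chkM_spec good gn_25)
  (forall_take_drop 1 (chkM_spec good gn_26)
  (forall_take_drop 2 (chkM_spec good gn_27)
  (forall_take_drop 2 (chkM_spec good gn_28)
  (forall_take_drop 2 (chkM_spec good gn_29)
  (chkM_spec good gn_30)))))))))))))))))))))))))))))))

theorem nzl : ∀ c ∈ nzClaims 50 40 nzl_r, HoldsG γ c :=
  (forall_take_drop 3 (chkM_spec good nzl_0)
  (forall_take_drop 4 (chkM_spec good nzl_1)
  (chkM_spec good nzl_2)))

theorem gk : ∀ c ∈ genClaims gk_g, HoldsG γ c :=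
  (forall_take_drop 1 (chkM_spec good gk_0)
  (forall_take_drop 1 (chkM_spec good gk_1)
  (forall_take_drop 1 (chkM_spec good gk_2)
  (forall_take_drop 1 (chkM_spec good gk_3)
  (chkM_spec good gk_4)))))

theorem pc3p : ∀ c ∈ pcPos 3 14 pc3, HoldsG γ c :=
  (forall_take_drop 7 (chkM_spec good pc3p_0)
  (forall_take_drop 6 (chkM_spec good pc3p_1)
  (forall_take_drop 6 (chkM_spec good pc3p_2)
  (forall_take_drop 6 (chkM_spec good pc3p_3)
  (forall_take_drop 6 (chkM_spec good pc3p_4)
  (forall_take_drop 6 (chkM_spec good pc3p_5)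
  (forall_take_drop 5 (chkM_spec good pc3p_6)
  (forall_take_drop 6 (chkM_spec good pc3p_7)
  (forall_take_drop 5 (chkM_spec good pc3p_8)
  (forall_take_drop 4 (chkM_spec good pc3p_9)
  (forall_take_drop 6 (chkM_spec good pc3p_10)
  (forall_take_drop 6 (chkM_spec good pc3p_11)
  (forall_take_drop 4 (chkM_spec good pc3p_12)
  (forall_take_drop 6 (chkM_spec good pc3p_13)
  (forall_take_drop 6 (chkM_spec good pc3p_14)
  (forall_take_drop 4 (chkM_spec good pc3p_15)
  (forall_take_drop 5 (chkM_spec good pc3p_16)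
  (chkM_spec good pc3p_17))))))))))))))))))

theorem pc3n : ∀ c ∈ (pcNeg 14 pc3).map Prod.fst, ¬ HoldsG γ c :=
  (chkN_spec good pc3n_0)

theorem pc5p : ∀ c ∈ pcPos 3 51 pc5, HoldsG γ c :=
  (forall_take_drop 7 (chkM_spec good pc5p_0)
  (forall_take_drop 6 (chkM_spec good pc5p_1)
  (forall_take_drop 6 (chkM_spec good pc5p_2)
  (chkM_spec good pc5p_3))))

theorem pc5n : ∀ c ∈ (pcNeg 51 pc5).map Prod.fst, ¬ HoldsG γ c :=
  (chkN_spec good pc5n_0)

theorem es : ∀ c ∈ esClaims 24 4, HoldsG γ c :=
  (forall_take_drop 8 (chkM_spec good es_0)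
  (forall_take_drop 6 (chkM_spec good es_1)
  (forall_take_drop 7 (chkM_spec good es_2)
  (forall_take_drop 6 (chkM_spec good es_3)
  (forall_take_drop 7 (chkM_spec good es_4)
  (forall_take_drop 6 (chkM_spec good es_5)
  (chkM_spec good es_6)))))))

theorem nzq : ∀ c ∈ nzClaims 33 24 nzq_r, HoldsG γ c :=
  (forall_take_drop 3 (chkM_spec good nzq_0)
  (forall_take_drop 3 (chkM_spec good nzq_1)
  (forall_take_drop 3 (chkM_spec good nzq_2)
  (forall_take_drop 4 (chkM_spec good nzq_3)
  (forall_take_drop 3 (chkM_spec good nzq_4)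
  (forall_take_drop 4 (chkM_spec good nzq_5)
  (forall_take_drop 4 (chkM_spec good nzq_6)
  (forall_take_drop 4 (chkM_spec good nzq_7)
  (forall_take_drop 3 (chkM_spec good nzq_8)
  (forall_take_drop 3 (chkM_spec good nzq_9)
  (forall_take_drop 4 (chkM_spec good nzq_10)
  (forall_take_drop 3 (chkM_spec good nzq_11)
  (forall_take_drop 4 (chkM_spec good nzq_12)
  (forall_take_drop 4 (chkM_spec good nzq_13)
  (forall_take_drop 4 (chkM_spec good nzq_14)
  (forall_take_drop 4 (chkM_spec good nzq_15)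
  (forall_take_drop 3 (chkM_spec good nzq_16)
  (chkM_spec good nzq_17))))))))))))))))))

theorem md6 : ∀ c ∈ modClaims ThB.cl6_l mdw6, HoldsG γ c :=
  (chkM_spec good md6_0)

theorem md5 : ∀ c ∈ modClaims ThB.cl5_l mdw5, HoldsG γ c :=
  (forall_take_drop 5 (chkM_spec good md5_0)
  (chkM_spec good md5_1))

theorem md4 : ∀ c ∈ modClaims ThB.cl4_l mdw4, HoldsG γ c :=
  (forall_take_drop 5 (chkM_spec good md4_0)
  (forall_take_drop 3 (chkM_spec good md4_1)
  (forall_take_drop 2 (chkM_spec good md4_2)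
  (forall_take_drop 2 (chkM_spec good md4_3)
  (chkM_spec good md4_4)))))

theorem md3 : ∀ c ∈ modClaims ThB.cl3_l mdw3, HoldsG γ c :=
  (forall_take_drop 6 (chkM_spec good md3_0)
  (forall_take_drop 3 (chkM_spec good md3_1)
  (forall_take_drop 2 (chkM_spec good md3_2)
  (forall_take_drop 3 (chkM_spec good md3_3)
  (forall_take_drop 2 (chkM_spec good md3_4)
  (forall_take_drop 1 (chkM_spec good md3_5)
  (forall_take_drop 1 (chkM_spec good md3_6)
  (forall_take_drop 1 (chkM_spec good md3_7)
  (forall_take_drop 2 (chkM_spec good md3_8)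
  (forall_take_drop 1 (chkM_spec good md3_9)
  (forall_take_drop 1 (chkM_spec good md3_10)
  (chkM_spec good md3_11))))))))))))

theorem md2 : ∀ c ∈ modClaims ThB.cl2_l mdw2, HoldsG γ c :=
  (forall_take_drop 1 (chkM_spec good md2_0)
  (forall_take_drop 3 (chkM_spec good md2_1)
  (forall_take_drop 5 (chkM_spec good md2_2)
  (chkM_spec good md2_3))))

theorem md1 : ∀ c ∈ modClaims ThB.cl1_l mdw1, HoldsG γ c :=
  (forall_take_drop 2 (chkM_spec good md1_0)
  (forall_take_drop 2 (chkM_spec good md1_1)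
  (forall_take_drop 7 (chkM_spec good md1_2)
  (forall_take_drop 1 (chkM_spec good md1_3)
  (forall_take_drop 1 (chkM_spec good md1_4)
  (chkM_spec good md1_5))))))

theorem md0 : ∀ c ∈ modClaims ThB.cl0_l mdw0, HoldsG γ c :=
  (forall_take_drop 1 (chkM_spec good md0_0)
  (forall_take_drop 1 (chkM_spec good md0_1)
  (forall_take_drop 1 (chkM_spec good md0_2)
  (forall_take_drop 3 (chkM_spec good md0_3)
  (forall_take_drop 6 (chkM_spec good md0_4)
  (forall_take_drop 2 (chkM_spec good md0_5)
  (chkM_spec good md0_6)))))))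

theorem mb9 : ∀ c ∈ modClaims ThC.cl9_l mbw9, HoldsG γ c :=
  (chkM_spec good mb9_0)

theorem mb8 : ∀ c ∈ modClaims ThC.cl8_l mbw8, HoldsG γ c :=
  (chkM_spec good mb8_0)

theorem mb7 : ∀ c ∈ modClaims ThC.cl7_l mbw7, HoldsG γ c :=
  (chkM_spec good mb7_0)

theorem mb6 : ∀ c ∈ modClaims ThC.cl6_l mbw6, HoldsG γ c :=
  (chkM_spec good mb6_0)

theorem mb5 : ∀ c ∈ modClaims ThC.cl5_l mbw5, HoldsG γ c :=
  (forall_take_drop 8 (chkM_spec good mb5_0)
  (chkM_spec good mb5_1))

theorem mb4 : ∀ c ∈ modClaims ThC.cl4_l mbw4, HoldsG γ c :=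
  (forall_take_drop 8 (chkM_spec good mb4_0)
  (chkM_spec good mb4_1))

theorem mb3 : ∀ c ∈ modClaims ThC.cl3_l mbw3, HoldsG γ c :=
  (forall_take_drop 6 (chkM_spec good mb3_0)
  (forall_take_drop 9 (chkM_spec good mb3_1)
  (forall_take_drop 3 (chkM_spec good mb3_2)
  (forall_take_drop 3 (chkM_spec good mb3_3)
  (forall_take_drop 3 (chkM_spec good mb3_4)
  (chkM_spec good mb3_5))))))

theorem mb2 : ∀ c ∈ modClaims ThC.cl2_l mbw2, HoldsG γ c :=
  (forall_take_drop 4 (chkM_spec good mb2_0)
  (forall_take_drop 10 (chkM_spec good mb2_1)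
  (forall_take_drop 2 (chkM_spec good mb2_2)
  (forall_take_drop 2 (chkM_spec good mb2_3)
  (forall_take_drop 2 (chkM_spec good mb2_4)
  (forall_take_drop 1 (chkM_spec good mb2_5)
  (forall_take_drop 1 (chkM_spec good mb2_6)
  (forall_take_drop 1 (chkM_spec good mb2_7)
  (forall_take_drop 2 (chkM_spec good mb2_8)
  (chkM_spec good mb2_9))))))))))

theorem mb1 : ∀ c ∈ modClaims ThC.cl1_l mbw1, HoldsG γ c :=
  (forall_take_drop 3 (chkM_spec good mb1_0)
  (forall_take_drop 8 (chkM_spec good mb1_1)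
  (forall_take_drop 7 (chkM_spec good mb1_2)
  (forall_take_drop 1 (chkM_spec good mb1_3)
  (forall_take_drop 1 (chkM_spec good mb1_4)
  (forall_take_drop 2 (chkM_spec good mb1_5)
  (chkM_spec good mb1_6)))))))

theorem mb0 : ∀ c ∈ modClaims ThC.cl0_l mbw0, HoldsG γ c :=
  (forall_take_drop 2 (chkM_spec good mb0_0)
  (forall_take_drop 1 (chkM_spec good mb0_1)
  (forall_take_drop 2 (chkM_spec good mb0_2)
  (forall_take_drop 2 (chkM_spec good mb0_3)
  (forall_take_drop 7 (chkM_spec good mb0_4)
  (forall_take_drop 5 (chkM_spec good mb0_5)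
  (forall_take_drop 2 (chkM_spec good mb0_6)
  (forall_take_drop 1 (chkM_spec good mb0_7)
  (forall_take_drop 1 (chkM_spec good mb0_8)
  (forall_take_drop 1 (chkM_spec good mb0_9)
  (forall_take_drop 2 (chkM_spec good mb0_10)
  (forall_take_drop 1 (chkM_spec good mb0_11)
  (forall_take_drop 1 (chkM_spec good mb0_12)
  (forall_take_drop 1 (chkM_spec good mb0_13)
  (forall_take_drop 1 (chkM_spec good mb0_14)
  (chkM_spec good mb0_15))))))))))))))))

theorem cmz : ∀ c ∈ cmLet [gw 24] 24 40, HoldsG γ c :=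
  (forall_take_drop 6 (chkM_spec good cmz_0)
  (forall_take_drop 6 (chkM_spec good cmz_1)
  (chkM_spec good cmz_2)))

theorem ceqz : ∀ c ∈ eqClaims cgz cwz, HoldsG γ c :=
  (forall_take_drop 1 (chkM_spec good ceqz_0)
  (forall_take_drop 1 (chkM_spec good ceqz_1)
  (forall_take_drop 2 (chkM_spec good ceqz_2)
  (forall_take_drop 2 (chkM_spec good ceqz_3)
  (chkM_spec good ceqz_4)))))

theorem cgoodz : ∀ c ∈ goodClaims (repsT.zip csz), HoldsG γ c :=
  (chkM_spec good cgoodz_0)

theorem cbadz : ∀ c ∈ ((badClaims czz cbz (repsT.zip csz)).zip cbadz_p).map Prod.fst, ¬ HoldsG γ c :=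
  (neg_take_drop 40 (chkN_spec good cbadz_0)
  (chkN_spec good cbadz_1))

theorem sm : ∀ c ∈ [(powP [gw 9] 19, []), (powP [gw 10] 31, []), (powP (gw 9 :: uw) (2 * 4 + 1), []), (uw ++ uw, []), (yw, hw.flatMap fun h => (2 * h) :: (uw ++ [2 * h + 1])), (powP [gw 11] 5, []), (powP [gw 12] 5, []), (powP [gw 13] 5, []), ([gw 11, gw 13], [gw 13, gw 11]), ([gw 12, gw 13], [gw 13, gw 12]), ([gw 12, gw 11], [gw 13, gw 11, gw 12]), ([gw 24], czz), (powP [gw 50] 3, [])], HoldsG γ c :=
  (forall_take_drop 1 (chkM_spec good sm_0)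
  (forall_take_drop 1 (chkM_spec good sm_1)
  (forall_take_drop 1 (fun c hc => HoldsR.holds (((chkR_spec good sm_2_0 c hc).append (chkR_spec good sm_2_83 c hc)).append (chkR_spec good sm_2_166 c hc)))
  (forall_take_drop 1 (chkM_spec good sm_3)
  (forall_take_drop 1 (fun c hc => HoldsR.holds (((chkR_spec good sm_4_0 c hc).append (chkR_spec good sm_4_83 c hc)).append (chkR_spec good sm_4_166 c hc)))
  (forall_take_drop 5 (chkM_spec good sm_5)
  (chkM_spec good sm_6)))))))

theorem ng : ∀ c ∈ (ng_l).map Prod.fst, ¬ HoldsG γ c :=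
  (chkN_spec good ng_0)

end Cfsg.Agent.Spor.Th
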